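import Mathlib

/-!
# The algebra `A[t]/(t^e - s)`
-/

set_option autoImplicit false

namespace Groth.Agent.CAlg76.RootPow

open Polynomial

universe u

variable {A : Type u} [CommRing A] (s : A) (e : ℕ)

/-- `A[t]/(t^e - s)` is étale over `A` away from `t` when `e` is invertible. -/
theorem etale_away (he : 0 < e) (heu : IsUnit (e : A)) :
    Algebra.Etale A (Localization.Away (AdjoinRoot.root (X ^ e - C s))) := by
  let P : StandardEtalePair A :=
    { f := X ^ e - C s
      monic_f := monic_X_pow_sub_C s he.ne'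
      g := X
      cond := ⟨C (heu.unit⁻¹ : Aˣ).val, 0, e - 1, by
        simp only [derivative_sub, derivative_C, sub_zero, derivative_X_pow, mul_zero, add_zero]
        rw [mul_right_comm, ← C_mul, IsUnit.mul_val_inv, C_1, one_mul]⟩ }
  show Algebra.Etale A (Localization.Away (AdjoinRoot.mk P.f P.g))
  exact Algebra.Etale.of_equiv P.equivAwayAdjoinRoot

/-- `(A[t]/(t^e - s))/(t) ≅ A/(s)`. -/
noncomputable def quotRootEquiv (he : 0 < e) :
    (AdjoinRoot (X ^ e - C s) ⧸ Ideal.span {AdjoinRoot.root (X ^ e - C s)}) ≃ₐ[A] (A ⧸ Ideal.span {s}) := by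
  let f := Ideal.Quotient.liftₐ (Ideal.span {AdjoinRoot.root (X ^ e - C s)})
    (AdjoinRoot.liftAlgHom (X ^ e - C s) (Algebra.ofId A (A ⧸ Ideal.span {s})) 0 (by
      simp [zero_pow he.ne', Ideal.Quotient.eq_zero_iff_mem]))
    (fun x hx ↦ by
      obtain ⟨y, rfl⟩ := Ideal.mem_span_singleton'.1 hx
      rw [map_mul, AdjoinRoot.liftAlgHom_root, mul_zero])
  let g := Ideal.Quotient.liftₐ (Ideal.span {s})
    (Algebra.ofId A (AdjoinRoot (X ^ e - C s) ⧸ Ideal.span {AdjoinRoot.root (X ^ e - C s)}))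
    (fun x hx ↦ by
      obtain ⟨y, rfl⟩ := Ideal.mem_span_singleton'.1 hx
      rw [map_mul, Algebra.ofId_apply, Algebra.ofId_apply,
        IsScalarTower.algebraMap_apply A (AdjoinRoot (X ^ e - C s)) _ s, AdjoinRoot.algebraMap_eq,
        Ideal.Quotient.algebraMap_eq]
      refine mul_eq_zero_of_right _ ?_
      rw [Ideal.Quotient.eq_zero_iff_mem]
      have h := AdjoinRoot.eval₂_root (X ^ e - C s)
      rw [eval₂_sub, eval₂_X_pow, eval₂_C, sub_eq_zero] at h
      rw [← h]
      exact Ideal.pow_mem_of_mem _ (Ideal.mem_span_singleton_self _) e he)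
  refine AlgEquiv.ofAlgHom f g ?_ ?_
  · exact Ideal.Quotient.algHom_ext _ (Subsingleton.elim _ _)
  · refine Ideal.Quotient.algHom_ext _ (AdjoinRoot.algHom_ext ?_)
    have h0 : f (Ideal.Quotient.mk _ (AdjoinRoot.root (X ^ e - C s))) = 0 :=
      AdjoinRoot.liftAlgHom_root (X ^ e - C s) (Algebra.ofId A (A ⧸ Ideal.span {s})) 0 (by
        simp [zero_pow he.ne'])
    show g (f (Ideal.Quotient.mk _ (AdjoinRoot.root (X ^ e - C s)))) = _
    rw [h0, map_zero]
    exact (Ideal.Quotient.eq_zero_iff_mem.2 (Ideal.mem_span_singleton_self _)).symm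

/-- `t` is a non-zero-divisor on `A[t]/(t^e - s)` when `s` is one on `A`. -/
theorem root_mem_nonZeroDivisors (he : 0 < e) (hs : s ∈ nonZeroDivisors A) :
    AdjoinRoot.root (X ^ e - C s) ∈ nonZeroDivisors (AdjoinRoot (X ^ e - C s)) := by
  rw [mem_nonZeroDivisors_iff_right]
  intro x hx
  have h := AdjoinRoot.eval₂_root (X ^ e - C s)
  rw [eval₂_sub, eval₂_X_pow, eval₂_C, sub_eq_zero] at h
  have hsx : s • x = 0 := by
    rw [Algebra.smul_def, AdjoinRoot.algebraMap_eq, ← h]
    obtain ⟨w, hw⟩ : AdjoinRoot.root (X ^ e - C s) ∣ AdjoinRoot.root (X ^ e - C s) ^ e := dvd_pow_self _ he.ne'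
    rw [hw, mul_right_comm, mul_comm _ x, hx, zero_mul]
  let b := (AdjoinRoot.powerBasis' (monic_X_pow_sub_C s he.ne')).basis
  refine b.ext_elem fun i ↦ ?_
  have := congrArg (fun y ↦ b.repr y i) hsx
  simp only [map_smul, Finsupp.smul_apply, smul_eq_mul, map_zero, Finsupp.zero_apply] at this
  rw [map_zero, Finsupp.zero_apply]
  exact (mem_nonZeroDivisors_iff.1 hs).1 _ this

/-- Localisation of a quotient at a prime. -/
theorem isLocalization_quotient_atPrime (I : Ideal A) (q : Ideal (A ⧸ I)) [q.IsPrime]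
    (Q : Ideal A) [Q.IsPrime] (hQ : q.comap (Ideal.Quotient.mk I) = Q)
    (Am : Type u) [CommRing Am] [Algebra A Am] [IsLocalization.AtPrime Am Q] :
    IsLocalization.AtPrime (Am ⧸ I.map (algebraMap A Am)) q := by
  subst hQ
  have hM : Algebra.algebraMapSubmonoid (A ⧸ I) (q.comap (Ideal.Quotient.mk I)).primeCompl
      = q.primeCompl := by
    ext y
    obtain ⟨a, rfl⟩ := Ideal.Quotient.mk_surjective y
    constructor
    · rintro ⟨b, hb, hab⟩ hq
      exact hb (show Ideal.Quotient.mk _ b ∈ q by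
        rw [← Ideal.Quotient.algebraMap_eq, hab]; exact hq)
    · intro h
      exact ⟨a, fun ha => h ha, rfl⟩
  change IsLocalization q.primeCompl _
  rw [← hM]
  infer_instance

end Groth.Agent.CAlg76.RootPow
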