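import Mathlib

/-!
# Smoothness of a given relative dimension and differentials

* `rankAtStalk_kaehler`: for `Spec B → Spec K` smooth of relative dimension `d`, `Ω[B⁄K]` has rank `d`.
* `etale_of_unramified`: an unramified map between smooth `K`-algebras of the same relative
  dimension is étale.
-/

set_option autoImplicit false

universe u

open CategoryTheory AlgebraicGeometry TensorProduct

namespace Groth.Agent.CAlg76.SmoothRelDim

variable {K : Type u} [CommRing K] {B : Type u} [CommRing B] [Algebra K B] {d : ℕ}

theorem exists_away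
    (h : SmoothOfRelativeDimension d (Spec.map (CommRingCat.ofHom (algebraMap K B)))) (P : Ideal B) [P.IsPrime] :
    ∃ t ∉ P, Algebra.IsStandardSmoothOfRelativeDimension d K (Localization.Away t) := by
  rw [HasRingHomProperty.Spec_iff (P := @SmoothOfRelativeDimension d)] at h
  obtain ⟨s, hs, hst⟩ := h
  obtain ⟨t, hts, htP⟩ : ∃ t ∈ s, t ∉ P := by
    by_contra hne
    push_neg at hne
    exact (Ideal.IsPrime.ne_top ‹P.IsPrime›) (top_le_iff.mp (hs ▸ Ideal.span_le.mpr hne))
  refine ⟨t, htP, ?_⟩
  rw [← RingHom.isStandardSmoothOfRelativeDimension_algebraMap]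
  exact hst t hts

theorem smooth_of_rel
    (h : SmoothOfRelativeDimension d (Spec.map (CommRingCat.ofHom (algebraMap K B)))) : Algebra.Smooth K B := by
  haveI := h
  have h1 : Smooth (Spec.map (CommRingCat.ofHom (algebraMap K B))) := SmoothOfRelativeDimension.smooth d _
  rw [HasRingHomProperty.Spec_iff (P := @Smooth)] at h1
  exact RingHom.smooth_algebraMap.mp h1

theorem rankAtStalk_kaehler
    (h : SmoothOfRelativeDimension d (Spec.map (CommRingCat.ofHom (algebraMap K B)))) (P : PrimeSpectrum B) :
    Module.rankAtStalk (R := B) (Ω[B⁄K]) P = d := by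
  haveI := smooth_of_rel h
  obtain ⟨t, htP, ht⟩ := exists_away h P.asIdeal
  obtain ⟨Q, hQ⟩ : ∃ Q : PrimeSpectrum (Localization.Away t), Q.comap (algebraMap B (Localization.Away t)) = P := by
    have : P ∈ (PrimeSpectrum.basicOpen t : Set (PrimeSpectrum B)) := htP
    rw [← PrimeSpectrum.localization_away_comap_range (Localization.Away t) t] at this
    exact this
  haveI : Algebra.FormallyEtale B (Localization.Away t) := Algebra.FormallyEtale.of_isLocalization (Submonoid.powers t)
  rw [← hQ, ← Module.rankAtStalk_baseChange (S := Localization.Away t),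
    Module.rankAtStalk_eq_of_equiv (KaehlerDifferential.isBaseChange_of_formallyEtale K B (Localization.Away t)).equiv]
  haveI : Nontrivial (Localization.Away t) := Q.nontrivial
  haveI : Algebra.IsStandardSmooth K (Localization.Away t) := Algebra.IsStandardSmoothOfRelativeDimension.isStandardSmooth d
  rw [Module.rankAtStalk_eq_finrank_of_free]
  exact Module.finrank_eq_of_rank_eq (Algebra.IsStandardSmoothOfRelativeDimension.rank_kaehlerDifferential d)

theorem rankAtStalk_kaehler_etale
    (h : SmoothOfRelativeDimension d (Spec.map (CommRingCat.ofHom (algebraMap K B))))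
    (C : Type u) [CommRing C] [Algebra K C] [Algebra B C] [IsScalarTower K B C] [Algebra.FormallyEtale B C]
    (Q : PrimeSpectrum C) : Module.rankAtStalk (R := C) (Ω[C⁄K]) Q = d := by
  haveI := smooth_of_rel h
  rw [← Module.rankAtStalk_eq_of_equiv (KaehlerDifferential.isBaseChange_of_formallyEtale K B C).equiv,
    Module.rankAtStalk_baseChange, rankAtStalk_kaehler h]

theorem etale_of_unramified {C : Type u} [CommRing C] [Algebra K C] [Algebra B C] [IsScalarTower K B C]
    (hB : SmoothOfRelativeDimension d (Spec.map (CommRingCat.ofHom (algebraMap K B))))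
    [Algebra.Smooth K C] (hC : ∀ Q : PrimeSpectrum C, Module.rankAtStalk (R := C) (Ω[C⁄K]) Q = d)
    [Algebra.FormallyUnramified B C] : Algebra.Etale B C := by
  haveI := smooth_of_rel hB
  let π := KaehlerDifferential.mapBaseChange K B C
  have hπ : Function.Surjective π := by
    intro z
    have h0 : KaehlerDifferential.map K B C C z = 0 := Subsingleton.elim _ _
    exact ((KaehlerDifferential.exact_mapBaseChange_map K B C) z).mp h0
  obtain ⟨s, hs⟩ := Module.projective_lifting_property π LinearMap.id hπ
  let e : (C ⊗[B] Ω[B⁄K]) ≃ₗ[C] LinearMap.ker π × Ω[C⁄K] :=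
    LinearEquiv.ofLinearMap (LinearMap.prod (LinearMap.codRestrict (LinearMap.ker π) (LinearMap.id - s ∘ₗ π) (fun x => by
        have := LinearMap.congr_fun hs (π x)
        simp only [LinearMap.comp_apply, LinearMap.id_apply] at this
        simp [this])) π)
      ((LinearMap.ker π).subtype.coprod s)
      (by
        refine LinearMap.ext fun x => Prod.ext (Subtype.ext ?_) ?_
        · have h1 := LinearMap.congr_fun hs x.2
          simp only [LinearMap.comp_apply, LinearMap.id_apply] at h1
          have h2 : π (x.1 : C ⊗[B] Ω[B⁄K]) = 0 := x.1.2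
          simp [h1, h2]
        · have h1 := LinearMap.congr_fun hs x.2
          simp only [LinearMap.comp_apply, LinearMap.id_apply] at h1
          have h2 : π (x.1 : C ⊗[B] Ω[B⁄K]) = 0 := x.1.2
          simp [h1, h2])
      (by
        refine LinearMap.ext fun x => ?_
        simp)
  haveI : Module.Projective C (LinearMap.ker π) :=
    Module.Projective.of_split (LinearMap.ker π).subtype
      ((LinearMap.fst C (LinearMap.ker π) (Ω[C⁄K])) ∘ₗ e.toLinearMap) (by
        refine LinearMap.ext fun x => Subtype.ext ?_
        show (x : C ⊗[B] Ω[B⁄K]) - s (π (x : C ⊗[B] Ω[B⁄K])) = x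
        rw [show π (x : C ⊗[B] Ω[B⁄K]) = 0 from x.2, map_zero, sub_zero])
  haveI : Module.Finite C (LinearMap.ker π) := Module.Finite.of_surjective
    ((LinearMap.fst C (LinearMap.ker π) (Ω[C⁄K])) ∘ₗ e.toLinearMap) ((LinearMap.fst_surjective (R := C) (M := LinearMap.ker π) (M₂ := Ω[C⁄K])).comp e.surjective)
  haveI : Subsingleton (LinearMap.ker π) := by
    rw [← Module.rankAtStalk_eq_zero_iff_subsingleton (R := C)]
    funext Q
    have h1 := congrFun (Module.rankAtStalk_eq_of_equiv (R := C) (M := C ⊗[B] Ω[B⁄K]) (N := LinearMap.ker π × Ω[C⁄K]) e) Q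
    rw [Module.rankAtStalk_prod, Pi.add_apply, Module.rankAtStalk_baseChange, rankAtStalk_kaehler hB, hC] at h1
    rw [Pi.zero_apply]
    omega
  have hinj : Function.Injective π := LinearMap.ker_eq_bot.mp (Submodule.subsingleton_iff_eq_bot.mp this)
  haveI : Subsingleton (Algebra.H1Cotangent B C) := by
    refine subsingleton_of_forall_eq 0 (fun x => ?_)
    have h1 : Algebra.H1Cotangent.δ K B C x = 0 :=
      hinj ((Algebra.H1Cotangent.exact_δ_mapBaseChange K B C).apply_apply_eq_zero x |>.trans (map_zero _).symm)
    obtain ⟨y, rfl⟩ := ((Algebra.H1Cotangent.exact_map_δ K B C) x).mp h1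
    rw [Subsingleton.elim y 0, map_zero]
  haveI : Algebra.FormallyEtale B C := (Algebra.formallyEtale_iff B C).mpr ⟨inferInstance, inferInstance⟩
  exact ⟨inferInstance, Algebra.FinitePresentation.of_restrict_scalars_finitePresentation K B C⟩

end Groth.Agent.CAlg76.SmoothRelDim
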