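import Mathlib

/-! The determinant of the generic matrix. -/

set_option autoImplicit false
universe u

open MvPolynomial

namespace Groth.Agent.CAlg76.DetPoly

section Prime

variable (K : Type u) [Field K]

/-- The determinant of the generic square matrix of positive size over a field is irreducible. -/
theorem irreducible_det (m : ℕ) :
    Irreducible (Matrix.mvPolynomialX (Fin (m + 1)) (Fin (m + 1)) K).det := by
  induction m with
  | zero =>
    show Irreducible (Matrix.mvPolynomialX (Fin 1) (Fin 1) K).det
    rw [Matrix.det_unique, Matrix.mvPolynomialX_apply]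
    exact (MvPolynomial.X_prime (R := K) (i := ((default : Fin 1), (default : Fin 1)))).irreducible
  | succ m ih =>
    classical
    set M : Matrix (Fin (m + 2)) (Fin (m + 2)) (MvPolynomial (Fin (m + 2) × Fin (m + 2)) K) :=
      Matrix.mvPolynomialX (Fin (m + 2)) (Fin (m + 2)) K with hM
    set d := (Matrix.mvPolynomialX (Fin (m + 1)) (Fin (m + 1)) K).det with hd
    let e : Fin (m + 2) → (Fin (m + 1) × Fin (m + 1)) → (Fin (m + 2) × Fin (m + 2)) :=
      fun j => Prod.map Fin.succ j.succAbove
    have hminor : ∀ j : Fin (m + 2), (M.submatrix Fin.succ j.succAbove).det = rename (e j) d := by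
      intro j
      rw [hd, AlgHom.map_det]
      congr 1
      ext a b : 2
      simp [hM, e]
    set z : Fin (m + 2) × Fin (m + 2) := (0, 0) with hz
    have hnot : ∀ (j : Fin (m + 2)) (p : MvPolynomial (Fin (m + 1) × Fin (m + 1)) K),
        z ∉ (rename (e j) p).vars := by
      intro j p hmem
      obtain ⟨a, _, ha⟩ := Finset.mem_image.mp (vars_rename (e j) p hmem)
      exact Fin.succ_ne_zero a.1 (congrArg Prod.fst ha)
    have hexp : M.det = ∑ j : Fin (m + 2), (-1) ^ (j : ℕ) * X (0, j) * rename (e j) d := by
      rw [Matrix.det_succ_row_zero]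
      exact Finset.sum_congr rfl fun j _ => by rw [hminor]; rfl
    have hd0 : d ≠ 0 := ih.ne_zero
    have hD0 : rename (e 0) d ≠ 0 := by
      have hinj : Function.Injective (e 0) :=
        (Fin.succ_injective _).prodMap (Fin.succAbove_right_injective)
      exact fun h => hd0 (rename_injective _ hinj (by rw [h, map_zero]))
    have hdeg : degreeOf z M.det ≤ 1 := by
      rw [hexp]
      refine (degreeOf_sum_le _ _ _).trans (Finset.sup_le fun j _ => ?_)
      refine (degreeOf_mul_le _ _ _).trans ?_
      have h1 : degreeOf z (rename (e j) d) = 0 := by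
        have := hnot j d
        rwa [mem_vars_iff_degreeOf_ne_zero, not_not] at this
      refine le_trans (add_le_add (degreeOf_mul_le _ _ _) h1.le) ?_
      have h2 : degreeOf z ((-1 : MvPolynomial (Fin (m + 2) × Fin (m + 2)) K) ^ (j : ℕ)) = 0 := by
        rw [show ((-1 : MvPolynomial (Fin (m + 2) × Fin (m + 2)) K)) = C (-1) by simp, ← C_pow,
          degreeOf_C]
      rw [h2, degreeOf_X]
      split <;> simp
    have hpd : pderiv z M.det = rename (e 0) d := by
      rw [hexp, map_sum, Finset.sum_eq_single 0]
      · rw [Fin.val_zero, pow_zero, one_mul, Derivation.leibniz,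
          pderiv_eq_zero_of_notMem_vars (hnot 0 d), hz, pderiv_X_self]
        simp
      · intro j _ hj
        rw [show ((-1 : MvPolynomial (Fin (m + 2) × Fin (m + 2)) K)) = C (-1) by simp, ← C_pow,
          mul_assoc, pderiv_C_mul, Derivation.leibniz, pderiv_eq_zero_of_notMem_vars (hnot j d),
          pderiv_X_of_ne (by simp [hz, hj])]
        simp
      · simp
    let s : Fin (m + 2) × Fin (m + 2) → K := fun ij =>
      ((1 : Matrix (Fin (m + 2)) (Fin (m + 2)) K).submatrix (Equiv.swap 0 1) id) ij.1 ij.2
    have hdet : eval s M.det ≠ 0 := by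
      rw [hM, Matrix.eval_det_mvPolynomialX]
      rw [show (Matrix.of fun i j => s (i, j)) =
        (1 : Matrix (Fin (m + 2)) (Fin (m + 2)) K).submatrix (Equiv.swap 0 1) id from rfl,
        Matrix.det_permute, Matrix.det_one, mul_one]
      rcases Int.units_eq_one_or (Equiv.Perm.sign (Equiv.swap (0 : Fin (m + 2)) 1)) with h | h <;>
        simp [h]
    have hDs : eval s (rename (e 0) d) = 0 := by
      rw [eval_rename, hd, Matrix.eval_det_mvPolynomialX]
      refine Matrix.det_eq_zero_of_row_eq_zero 0 fun j => ?_
      simp [s, e, Matrix.one_apply, eq_comm (a := (0 : Fin (m + 2)))]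
    refine ⟨?_, fun f g hfg => ?_⟩
    · intro hu
      rw [MvPolynomial.isUnit_iff_eq_C_of_isReduced] at hu
      obtain ⟨r, _, hr⟩ := hu
      apply hD0
      rw [← hpd, hr, pderiv_C]
    wlog hf : degreeOf z f = 0 generalizing f g
    · refine (this g f (by rw [hfg, mul_comm]) ?_).symm
      have h0 : M.det ≠ 0 := Matrix.det_mvPolynomialX_ne_zero _ _
      have hf0 : f ≠ 0 := fun h => h0 (by rw [hfg, h, zero_mul])
      have hg0 : g ≠ 0 := fun h => h0 (by rw [hfg, h, mul_zero])
      rw [hfg, degreeOf_mul_eq hf0 hg0] at hdeg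
      omega
    have hfv : z ∉ f.vars := by rw [mem_vars_iff_degreeOf_ne_zero, hf]; simp
    have hD : rename (e 0) d = f * pderiv z g := by
      rw [← hpd, hfg, Derivation.leibniz, pderiv_eq_zero_of_notMem_vars hfv]
      simp
    have hf0 : f ≠ 0 := fun h => hD0 (by rw [hD, h, zero_mul])
    have hg0 : pderiv z g ≠ 0 := fun h => hD0 (by rw [hD, h, mul_zero])
    have hinj : Function.Injective (e 0) :=
      (Fin.succ_injective _).prodMap (Fin.succAbove_right_injective)
    obtain ⟨f', rfl⟩ : ∃ f', rename (e 0) f' = f := by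
      refine exists_rename_eq_of_vars_subset_range f _ hinj fun v hv => ?_
      by_contra hv'
      have h1 : v ∉ (rename (e 0) d).vars := fun h => by
        obtain ⟨a, _, ha⟩ := Finset.mem_image.mp (vars_rename (e 0) d h)
        exact hv' ⟨a, ha⟩
      rw [mem_vars_iff_degreeOf_ne_zero, not_not, hD, degreeOf_mul_eq hf0 hg0] at h1
      rw [Finset.mem_coe, mem_vars_iff_degreeOf_ne_zero] at hv
      omega
    have hd' : d = f' * killCompl hinj (pderiv z g) := by
      have := congrArg (killCompl hinj) hD
      rwa [map_mul, killCompl_rename_app, killCompl_rename_app] at this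
    rcases ih.isUnit_or_isUnit hd' with hu | hu
    · exact Or.inl (hu.map _)
    · exfalso
      obtain ⟨w, hw⟩ := hu
      have : f' = d * ((w⁻¹ : (MvPolynomial (Fin (m + 1) × Fin (m + 1)) K)ˣ) : MvPolynomial _ K) := by
        rw [hd', ← hw, mul_assoc, Units.mul_inv, mul_one]
      apply hdet
      rw [hfg, map_mul, this, map_mul (rename (e 0)), map_mul, hDs, zero_mul, zero_mul]

/-- The determinant of the generic square matrix of positive size over a field is prime. -/
theorem prime_det {n : ℕ} (hn : 0 < n) : Prime (Matrix.mvPolynomialX (Fin n) (Fin n) K).det := by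
  obtain ⟨m, rfl⟩ : ∃ m, n = m + 1 := ⟨n - 1, by omega⟩
  exact UniqueFactorizationMonoid.irreducible_iff_prime.mp (irreducible_det K m)

end Prime

variable (A : Type u) [CommRing A]

/-- The determinant of the generic matrix. -/
noncomputable abbrev gdet (n : ℕ) : MvPolynomial (Fin n × Fin n) A :=
  (Matrix.mvPolynomialX (Fin n) (Fin n) A).det

/-- Evaluation at the identity matrix. -/
noncomputable def atOne (n : ℕ) : MvPolynomial (Fin n × Fin n) A →ₐ[A] A :=
  aeval fun ij => (1 : Matrix (Fin n) (Fin n) A) ij.1 ij.2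

lemma atOne_det (n : ℕ) : atOne A n (gdet A n) = 1 := by
  rw [atOne, AlgHom.map_det, Matrix.mvPolynomialX_mapMatrix_aeval, Matrix.det_one]

lemma map_det {B : Type u} [CommRing B] (φ : A →+* B) (n : ℕ) :
    map φ (gdet A n) = gdet B n := by
  rw [RingHom.map_det]
  congr 1
  ext i j : 2
  simp

/-- A divisor of a power of the generic determinant over a domain is a constant multiple of a power. -/
theorem eq_C_mul_pow_of_mul_eq_pow [IsDomain A] {n : ℕ} (hn : 0 < n)
    {g h : MvPolynomial (Fin n × Fin n) A} {N : ℕ} (hgh : g * h = gdet A n ^ N) :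
    ∃ j ≤ N, g = C (atOne A n g) * gdet A n ^ j := by
  let K := FractionRing A
  have hinj : Function.Injective (map (σ := Fin n × Fin n) (algebraMap A K)) :=
    map_injective _ (IsFractionRing.injective A K)
  have hg : map (algebraMap A K) g ∣ gdet K n ^ N := ⟨map (algebraMap A K) h, by
    rw [← map_det A (algebraMap A K), ← map_mul, hgh, map_pow]⟩
  obtain ⟨j, hj, w, hw⟩ := (dvd_prime_pow (prime_det K hn) N).mp hg
  refine ⟨j, hj, hinj ?_⟩
  obtain ⟨r, _, hr⟩ := (isUnit_iff_eq_C_of_isReduced).mp w⁻¹.isUnit
  have h1 : map (algebraMap A K) g = gdet K n ^ j * C r := by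
    rw [← hr, ← hw, mul_assoc, Units.mul_inv, mul_one]
  have h2 : algebraMap A K (atOne A n g) = r := by
    have h3 := congrArg (atOne K n) h1
    rw [map_mul, map_pow, atOne_det, one_pow, one_mul] at h3
    rw [show atOne K n (C r) = r from aeval_C _ r] at h3
    rw [← h3]
    have hc : (algebraMap A K).comp (atOne A n).toRingHom =
        (atOne K n).toRingHom.comp (map (algebraMap A K)) := by
      refine ringHom_ext (fun r => ?_) fun ij => ?_
      · simp [atOne]
      · obtain ⟨a, b⟩ := ij
        by_cases hab : a = b <;> simp [atOne, hab]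
    exact RingHom.congr_fun hc g
  rw [map_mul, map_pow, map_det, map_C, h1, h2, mul_comm]

/-- The point `diag(T, 1, …, 1)`. -/
noncomputable def diagPt {n : ℕ} (hn : 0 < n) :
    MvPolynomial (Fin n × Fin n) A →ₐ[A] LaurentPolynomial A :=
  aeval fun ij => (Matrix.diagonal fun i : Fin n =>
    if i = ⟨0, hn⟩ then (LaurentPolynomial.T 1 : LaurentPolynomial A) else 1) ij.1 ij.2

lemma diagPt_det {n : ℕ} (hn : 0 < n) : diagPt A hn (gdet A n) = LaurentPolynomial.T 1 := by
  rw [diagPt, AlgHom.map_det, Matrix.mvPolynomialX_mapMatrix_aeval, Matrix.det_diagonal]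
  simp [Finset.prod_ite_eq']

/-- The coordinate ring of `GL_n` evaluated on `diag(T, 1, …, 1)`. -/
noncomputable def glToLaurent {n : ℕ} (hn : 0 < n) :
    Localization.Away (gdet A n) →+* LaurentPolynomial A :=
  IsLocalization.Away.lift (gdet A n) (g := (diagPt A hn).toRingHom)
    (by rw [AlgHom.toRingHom_eq_coe, RingHom.coe_coe, diagPt_det]; exact LaurentPolynomial.isUnit_T 1)

lemma glToLaurent_algebraMap {n : ℕ} (hn : 0 < n) (g : MvPolynomial (Fin n × Fin n) A) :
    glToLaurent A hn (algebraMap _ _ g) = diagPt A hn g :=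
  IsLocalization.Away.lift_eq _ _ g

lemma glToLaurent_C {n : ℕ} (hn : 0 < n) (a : A) :
    glToLaurent A hn (algebraMap A _ a) = LaurentPolynomial.C a := by
  rw [IsScalarTower.algebraMap_apply A (MvPolynomial (Fin n × Fin n) A), glToLaurent_algebraMap,
    AlgHom.commutes]
  rfl

lemma glToLaurent_det_zpow {n : ℕ} (hn : 0 < n) (u : (Localization.Away (gdet A n))ˣ)
    (hu : (u : Localization.Away (gdet A n)) = algebraMap _ _ (gdet A n)) (e : ℤ) :
    glToLaurent A hn ((u ^ e : (Localization.Away (gdet A n))ˣ) : Localization.Away (gdet A n)) =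
      LaurentPolynomial.T e := by
  have h1 : glToLaurent A hn u = LaurentPolynomial.T 1 := by
    rw [hu, glToLaurent_algebraMap, diagPt_det]
  induction e with
  | zero => simp [LaurentPolynomial.T_zero]
  | succ k ih =>
    rw [zpow_add_one, Units.val_mul, map_mul, ih, h1, ← LaurentPolynomial.T_add]
  | pred k ih =>
    have h2 : glToLaurent A hn ((u⁻¹ : (Localization.Away (gdet A n))ˣ) : Localization.Away (gdet A n))
        = LaurentPolynomial.T (-1) := by
      have h := congrArg (glToLaurent A hn) u.inv_mul
      rw [map_mul, h1, map_one] at h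
      calc glToLaurent A hn ((u⁻¹ : (Localization.Away (gdet A n))ˣ) : Localization.Away (gdet A n))
          = glToLaurent A hn ((u⁻¹ : (Localization.Away (gdet A n))ˣ) : Localization.Away (gdet A n)) *
              (LaurentPolynomial.T 1 * LaurentPolynomial.T (-1)) := by
            rw [← LaurentPolynomial.T_add, add_neg_cancel, LaurentPolynomial.T_zero, mul_one]
        _ = LaurentPolynomial.T (-1) := by rw [← mul_assoc, h, one_mul]
    rw [zpow_sub_one, Units.val_mul, map_mul, ih, h2, ← LaurentPolynomial.T_add, ← sub_eq_add_neg]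

end Groth.Agent.CAlg76.DetPoly
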