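import Mathlib
import Groth.Agent.VarDim.Algebra
import Groth.Agent.FieldSep.Cartier
import Groth.Agent.CAlg76.SmoothRelDim

/-!
# Dimension of the fibres of a flat algebra over a discrete valuation ring

* `ringKrullDim_le_of_smooth`: an algebra smooth of relative dimension `d` over a field has dim `≤ d`.
* `ringKrullDim_closedFibre_le`: for `R` flat of finite type over a DVR, `dim (k ⊗ R) ≤ d` as soon as
  `trdeg_K ((K ⊗ R)/P) ≤ d` for every prime `P`.
-/

set_option autoImplicit false

universe u

open TensorProduct AlgebraicGeometry CategoryTheory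

namespace Groth.Agent.CAlg76.FibreDim

theorem ringKrullDim_le_of_trdeg {k A : Type u} [Field k] [CommRing A] [Algebra k A] [Algebra.FiniteType k A]
    {d : ℕ} (h : ∀ q : Ideal A, q.IsPrime → Algebra.trdeg k (A ⧸ q) ≤ d) :
    ringKrullDim A ≤ d := by
  refine iSup_le fun l => ?_
  set q := l.head.asIdeal
  haveI : Algebra.FiniteType k (A ⧸ q) := Algebra.FiniteType.of_surjective (Ideal.Quotient.mkₐ k q) Ideal.Quotient.mk_surjective
  obtain ⟨n, hn, hn', -⟩ := Groth.Agent.VarDim.exists_ringKrullDim_eq_trdeg k (A ⧸ q)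
  have h1 : (n : Cardinal) ≤ d := hn' ▸ h q inferInstance
  have h2 : n ≤ d := by exact_mod_cast h1
  refine le_trans ?_ (show ((n : ℕ) : WithBot ℕ∞) ≤ d by exact_mod_cast h2)
  rw [← hn, ringKrullDim_quotient]
  have hmem : ∀ i, l i ∈ PrimeSpectrum.zeroLocus (q : Set A) := fun i =>
    show q ≤ (l i).asIdeal from l.monotone (Fin.zero_le i)
  exact Order.LTSeries.length_le_krullDim (LTSeries.mk l.length (fun i => (⟨l i, hmem i⟩ : PrimeSpectrum.zeroLocus (q : Set A)))
    (fun i j hij => show l i < l j from l.strictMono hij))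

theorem trdeg_quotient_le_of_smooth {K C : Type u} [Field K] [CommRing C] [Algebra K C] {d : ℕ}
    (h : SmoothOfRelativeDimension d (Spec.map (CommRingCat.ofHom (algebraMap K C))))
    (P : Ideal C) [P.IsPrime] : Algebra.trdeg K (C ⧸ P) ≤ d := by
  haveI := SmoothRelDim.smooth_of_rel h
  let L := P.ResidueField
  haveI : Algebra.EssFiniteType C L := inferInstance
  haveI : Algebra.EssFiniteType K L := Algebra.EssFiniteType.comp K C L
  obtain ⟨-, -, h3⟩ := Groth.Agent.FieldSep.Cartier.finrank_sub_finrank_eq_trdeg K L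
  haveI : Algebra.FormallyUnramified C L := Algebra.FormallyUnramified.comp C (Localization.AtPrime P) L
  have hsurj : Function.Surjective (KaehlerDifferential.mapBaseChange K C L) := by
    intro z
    have h0 : KaehlerDifferential.map K C L L z = 0 := Subsingleton.elim _ _
    exact ((KaehlerDifferential.exact_mapBaseChange_map K C L) z).mp h0
  have h4 : Module.finrank L (L ⊗[C] Ω[C⁄K]) = d := by
    rw [← SmoothRelDim.rankAtStalk_kaehler h ⟨P, inferInstance⟩, Module.rankAtStalk_eq]
  have h5 : Module.finrank L (Ω[L⁄K]) ≤ d := h4 ▸ LinearMap.finrank_le_finrank_of_surjective hsurj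
  obtain ⟨n, hn, hn', -⟩ := Groth.Agent.VarDim.exists_ringKrullDim_eq_trdeg K (C ⧸ P)
  have hL : Algebra.trdeg K L < Cardinal.aleph0 := by
    by_contra hinf
    rw [not_lt] at hinf
    obtain ⟨s, hs⟩ := exists_isTranscendenceBasis (C ⧸ P) L
    exact absurd hinf (not_le.mpr (by
      rw [← trdeg_add_eq K (C ⧸ P), trdeg_eq_zero (R := C ⧸ P) (A := L), add_zero, hn']
      exact Cardinal.natCast_lt_aleph0))
  obtain ⟨m, hm⟩ := Cardinal.lt_aleph0.mp hL
  rw [hm, Cardinal.toNat_natCast] at h3
  have hle : Algebra.trdeg K (C ⧸ P) ≤ Algebra.trdeg K L :=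
    trdeg_le_of_injective (IsScalarTower.toAlgHom K (C ⧸ P) L) (IsFractionRing.injective (C ⧸ P) L)
  rw [hm] at hle
  exact hle.trans (by exact_mod_cast (by omega : m ≤ d))

theorem ringKrullDim_le_of_smooth {K C : Type u} [Field K] [CommRing C] [Algebra K C] {d : ℕ}
    (h : SmoothOfRelativeDimension d (Spec.map (CommRingCat.ofHom (algebraMap K C)))) :
    ringKrullDim C ≤ d := by
  haveI := SmoothRelDim.smooth_of_rel h
  exact ringKrullDim_le_of_trdeg (k := K) fun q hq => trdeg_quotient_le_of_smooth h q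

variable {V : Type u} [CommRing V] [IsDomain V] [IsDiscreteValuationRing V]
  {R : Type u} [CommRing R] [Algebra V R]

/-- A family with algebraically independent residues is independent on a dominating component. -/
theorem algebraicIndependent_of_residue {D : Type u} [CommRing D] [IsDomain D] [Algebra V D]
    (hV : Function.Injective (algebraMap V D))
    {k : Type u} [Field k] [Algebra V k] (hk : RingHom.ker (algebraMap V k) = IsLocalRing.maximalIdeal V)
    {E : Type u} [CommRing E] [Algebra V E] [Algebra k E] [IsScalarTower V k E] (π : D →ₐ[V] E)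
    {ι : Type*} (x : ι → D) (hx : AlgebraicIndependent k (π ∘ x)) : AlgebraicIndependent V x := by
  obtain ⟨ϖ, hϖ⟩ := IsDiscreteValuationRing.exists_irreducible V
  rw [algebraicIndependent_iff]
  intro p hp
  by_contra hne
  -- strip powers of the uniformizer
  have key : ∀ (N : ℕ) (p : MvPolynomial ι V), p ≠ 0 → MvPolynomial.aeval x p = 0 →
      (∃ i, MvPolynomial.coeff i p ∉ Ideal.span {ϖ ^ N}) → False := by
    intro N
    induction N with
    | zero =>
      rintro p - - ⟨i, hi⟩
      exact hi (by rw [pow_zero, Ideal.span_singleton_one]; trivial)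
    | succ N ih =>
      rintro p hp0 hp ⟨i, hi⟩
      by_cases hall : ∀ j, MvPolynomial.coeff j p ∈ IsLocalRing.maximalIdeal V
      · have hd : MvPolynomial.C ϖ ∣ p := by
          rw [MvPolynomial.C_dvd_iff_dvd_coeff]
          intro j
          exact Ideal.mem_span_singleton.mp (hϖ.maximalIdeal_eq ▸ hall j)
        obtain ⟨q, rfl⟩ := hd
        refine ih q (fun h => hp0 (by rw [h, mul_zero])) ?_ ⟨i, fun h => hi ?_⟩
        · rw [map_mul, MvPolynomial.aeval_C, mul_eq_zero] at hp
          exact hp.resolve_left (fun h => hϖ.ne_zero ((map_eq_zero_iff _ hV).mp h))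
        · rw [MvPolynomial.coeff_C_mul]
          obtain ⟨c, hc⟩ := Ideal.mem_span_singleton.mp h
          exact Ideal.mem_span_singleton.mpr ⟨c, by rw [hc, pow_succ']; ring⟩
      · push_neg at hall
        obtain ⟨j, hj⟩ := hall
        have h1 : MvPolynomial.aeval (π ∘ x) (MvPolynomial.map (algebraMap V k) p) = 0 := by
          rw [MvPolynomial.aeval_map_algebraMap, show (⇑π ∘ x) = fun i => π (x i) from rfl,
            ← MvPolynomial.comp_aeval_apply, hp, map_zero]
        have h2 := congrArg (MvPolynomial.coeff j) (hx.eq_zero_of_aeval_eq_zero _ h1)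
        rw [MvPolynomial.coeff_map, MvPolynomial.coeff_zero, ← RingHom.mem_ker, hk] at h2
        exact hj h2
  obtain ⟨i, hi⟩ : ∃ i, MvPolynomial.coeff i p ≠ 0 := by
    by_contra h
    push_neg at h
    exact hne (MvPolynomial.ext _ _ fun i => by simp [h i])
  obtain ⟨m, hm⟩ := IsDiscreteValuationRing.associated_pow_irreducible hi hϖ
  refine key (m + 1) p hne hp ⟨i, fun h => ?_⟩
  have h1 := (Ideal.mem_span_singleton.mp h).trans hm.dvd
  rw [pow_dvd_pow_iff hϖ.ne_zero hϖ.not_isUnit] at h1
  omega

theorem algebraicIndependent_fractionRing {D : Type u} [CommRing D] [IsDomain D] [Algebra V D]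
    {C : Type u} [CommRing C] [Algebra (FractionRing V) C] [Algebra V C] [IsScalarTower V (FractionRing V) C]
    (j : D →ₐ[V] C) (hj : Function.Injective j) {ι : Type*} (x : ι → D) (hx : AlgebraicIndependent V x) :
    AlgebraicIndependent (FractionRing V) (j ∘ x) := by
  rw [algebraicIndependent_iff]
  intro p hp
  obtain ⟨b, hb⟩ := IsLocalization.exist_integer_multiples (nonZeroDivisors V) p.support
    (fun i => MvPolynomial.coeff i p)
  choose c hc using hb
  let q : MvPolynomial ι V := ∑ i : p.support, MvPolynomial.monomial (i : ι →₀ ℕ) (c i i.2)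
  have hq : MvPolynomial.map (algebraMap V (FractionRing V)) q = algebraMap V (FractionRing V) (b : V) • p := by
    conv_rhs => rw [← p.support_sum_monomial_coeff, Finset.smul_sum, ← Finset.sum_coe_sort]
    rw [map_sum]
    refine Finset.sum_congr rfl fun i _ => ?_
    rw [MvPolynomial.map_monomial, hc, MvPolynomial.smul_monomial, Algebra.smul_def, smul_eq_mul]
  have hq0 : q = 0 := by
    refine hx.eq_zero_of_aeval_eq_zero _ (hj ?_)
    rw [map_zero, ← AlgHom.comp_apply, MvPolynomial.comp_aeval,
      ← MvPolynomial.aeval_map_algebraMap (FractionRing V), hq, map_smul]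
    show _ • MvPolynomial.aeval (j ∘ x) p = 0
    rw [hp, smul_zero]
  have hb0 : algebraMap V (FractionRing V) (b : V) ≠ 0 := fun h =>
    nonZeroDivisors.ne_zero b.2 ((map_eq_zero_iff _ (IsFractionRing.injective V (FractionRing V))).mp h)
  rw [hq0, map_zero, eq_comm, smul_eq_zero] at hq
  exact hq.resolve_left hb0

theorem ringKrullDim_closedFibre_le [Algebra.FiniteType V R] [Module.Flat V R] {d : ℕ}
    (h : ∀ P : Ideal (FractionRing V ⊗[V] R), P.IsPrime →
      Algebra.trdeg (FractionRing V) ((FractionRing V ⊗[V] R) ⧸ P) ≤ d) :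
    ringKrullDim (IsLocalRing.ResidueField V ⊗[V] R) ≤ d := by
  classical
  refine ringKrullDim_le_of_trdeg (k := IsLocalRing.ResidueField V) fun q hq => ?_
  haveI := hq
  let ρ : R →ₐ[V] (IsLocalRing.ResidueField V ⊗[V] R) := Algebra.TensorProduct.includeRight
  have hρ : Function.Surjective ρ := by
    intro z
    induction z with
    | zero => exact ⟨0, map_zero _⟩
    | add a b ha hb =>
      obtain ⟨a, rfl⟩ := ha; obtain ⟨b, rfl⟩ := hb
      exact ⟨a + b, map_add _ _ _⟩
    | tmul a r =>
      obtain ⟨v, rfl⟩ := IsLocalRing.residue_surjective a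
      refine ⟨v • r, ?_⟩
      show (1 : IsLocalRing.ResidueField V) ⊗ₜ[V] (v • r) = IsLocalRing.residue V v ⊗ₜ[V] r
      rw [TensorProduct.tmul_smul, TensorProduct.smul_tmul', Algebra.smul_def, mul_one]
      rfl
  haveI : (q.comap ρ).IsPrime := Ideal.comap_isPrime ρ q
  obtain ⟨P, hPmin, hPq⟩ := Ideal.exists_minimalPrimes_le (show (⊥ : Ideal R) ≤ q.comap ρ from bot_le)
  haveI hP : P.IsPrime := hPmin.1.1
  have hPV : ∀ v : V, algebraMap V R v ∈ P → v = 0 := by
    intro v hv
    by_contra hv0
    obtain ⟨b, hb, hvb⟩ : ∃ b : R, b ≠ 0 ∧ algebraMap V R v * b = 0 := by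
      by_contra hne
      push_neg at hne
      exact Set.disjoint_left.mp (Ideal.disjoint_nonZeroDivisors_of_mem_minimalPrimes hPmin) hv
        (mem_nonZeroDivisors_iff_right.mpr fun x hx => by_contra fun hx0 => hne x hx0 (by rwa [mul_comm]))
    have hreg : IsSMulRegular R v :=
      Module.Flat.isSMulRegular_of_isRegular (IsRegular.of_ne_zero hv0)
    exact hb (hreg (show v • b = v • 0 by rw [smul_zero, Algebra.smul_def, hvb]))
  let π : (R ⧸ P) →ₐ[V] ((IsLocalRing.ResidueField V ⊗[V] R) ⧸ q) :=
    Ideal.Quotient.liftₐ P ((Ideal.Quotient.mkₐ V q).comp ρ) (fun a ha => Ideal.Quotient.eq_zero_iff_mem.mpr (hPq ha))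
  have hVinj : Function.Injective (algebraMap V (R ⧸ P)) := (injective_iff_map_eq_zero _).mpr fun v hv =>
    hPV v (Ideal.Quotient.eq_zero_iff_mem.mp hv)
  have hπ : Function.Surjective π := by
    intro z
    obtain ⟨w, rfl⟩ := Ideal.Quotient.mk_surjective z
    obtain ⟨r, rfl⟩ := hρ w
    exact ⟨Ideal.Quotient.mk P r, rfl⟩
  -- the generic point
  let K := FractionRing V
  let ι' : R →ₐ[V] K ⊗[V] R := Algebra.TensorProduct.includeRight
  letI : Algebra R (K ⊗[V] R) := Algebra.TensorProduct.rightAlgebra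
  haveI : IsLocalization (Algebra.algebraMapSubmonoid R (nonZeroDivisors V)) (K ⊗[V] R) := IsLocalization.tensorRight _ _
  have hdisj : Disjoint ((Algebra.algebraMapSubmonoid R (nonZeroDivisors V)) : Set R) (P : Set R) := by
    rw [Set.disjoint_left]
    rintro _ ⟨v, hv, rfl⟩ hvP
    exact nonZeroDivisors.ne_zero hv (hPV v hvP)
  haveI hP' := IsLocalization.isPrime_of_isPrime_disjoint _ (K ⊗[V] R) P hP hdisj
  have hcomap := IsLocalization.under_map_of_isPrime_disjoint (Algebra.algebraMapSubmonoid R (nonZeroDivisors V)) (K ⊗[V] R) hP hdisj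
  let P' := Ideal.map (algebraMap R (K ⊗[V] R)) P
  let j : (R ⧸ P) →ₐ[V] ((K ⊗[V] R) ⧸ P') :=
    Ideal.Quotient.liftₐ P ((Ideal.Quotient.mkₐ V P').comp ι') (fun a ha =>
      Ideal.Quotient.eq_zero_iff_mem.mpr (Ideal.mem_map_of_mem (algebraMap R (K ⊗[V] R)) ha))
  have hj : Function.Injective j := by
    rw [injective_iff_map_eq_zero]
    intro z hz
    obtain ⟨r, rfl⟩ := Ideal.Quotient.mk_surjective z
    refine Ideal.Quotient.eq_zero_iff_mem.mpr ?_
    rw [← hcomap]
    exact (Ideal.Quotient.eq_zero_iff_mem (I := P')).mp (show Ideal.Quotient.mk P' (ι' r) = 0 from hz)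
  obtain ⟨s, hs⟩ := exists_isTranscendenceBasis' (IsLocalRing.ResidueField V) ((IsLocalRing.ResidueField V ⊗[V] R) ⧸ q)
  obtain ⟨xx, hxx⟩ := hs
  choose y hy using fun i : s => hπ (xx i)
  have h0 : AlgebraicIndependent (IsLocalRing.ResidueField V) (π ∘ y) := by
    rw [show π ∘ y = xx from funext hy]
    exact hxx.1
  have h1 := algebraicIndependent_of_residue hVinj (Ideal.mk_ker) π y h0
  have h2 := algebraicIndependent_fractionRing (V := V) (C := (K ⊗[V] R) ⧸ P') j hj y h1
  rw [← hxx.cardinalMk_eq_trdeg]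
  exact h2.cardinalMk_le_trdeg.trans (h P' hP')

end Groth.Agent.CAlg76.FibreDim
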