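import Mathlib

/-! Divisibility of ghost components. -/

set_option autoImplicit false
universe u

namespace Groth.Agent.CAlg76.Ghost

variable {p : ℕ} [Fact p.Prime] {S : Type u} [CommRing S]

lemma two_le : 2 ≤ p := (Fact.out : p.Prime).two_le

lemma ghost_eq (n : ℕ) (x : WittVector p S) :
    WittVector.ghostComponent n x = ∑ i ∈ Finset.range (n + 1), (p : S) ^ i * x.coeff i ^ p ^ (n - i) := by
  rw [WittVector.ghostComponent_apply, aeval_wittPolynomial]

lemma succ_le_pow (k : ℕ) : k + 1 ≤ p ^ k := Nat.lt_pow_self two_le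

lemma dvd_term {s i n : ℕ} (hs : 1 ≤ s) (hi : i ≤ n) {c : S} (hc : (p : S) ^ s ∣ c) :
    (p : S) ^ (n + s) ∣ (p : S) ^ i * c ^ p ^ (n - i) := by
  obtain ⟨d, rfl⟩ := hc
  rw [mul_pow, ← pow_mul, ← mul_assoc, ← pow_add]
  refine Dvd.dvd.mul_right (pow_dvd_pow _ ?_) _
  have h1 := succ_le_pow (p := p) (n - i)
  have h2 : s * (n - i + 1) ≤ s * p ^ (n - i) := Nat.mul_le_mul_left s h1
  have h3 : 1 * (n - i) ≤ s * (n - i) := Nat.mul_le_mul_right _ hs
  rw [Nat.mul_succ] at h2
  omega

lemma dvd_ghost {s n : ℕ} (hs : 1 ≤ s) (x : WittVector p S) (h : ∀ i ≤ n, (p : S) ^ s ∣ x.coeff i) :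
    (p : S) ^ (n + s) ∣ WittVector.ghostComponent n x := by
  rw [ghost_eq]
  exact Finset.dvd_sum fun i hi => dvd_term hs (Nat.lt_succ_iff.mp (Finset.mem_range.mp hi))
    (h i (Nat.lt_succ_iff.mp (Finset.mem_range.mp hi)))

variable (hS : ∀ y : S, (p : S) * y = 0 → y = 0)

include hS in
lemma pow_cancel {k : ℕ} {a b : S} (h : (p : S) ^ k * a = (p : S) ^ k * b) : a = b := by
  induction k generalizing a b with
  | zero => simpa using h
  | succ k ih =>
    rw [pow_succ, mul_assoc, mul_assoc] at h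
    exact sub_eq_zero.mp (hS _ (by rw [mul_sub, ih h, sub_self]))

include hS in
/-- `p^s` divides the components `< m` iff `p^(n+s)` divides the ghost components `< m`. -/
theorem dvd_coeff_iff {s : ℕ} (hs : 1 ≤ s) (x : WittVector p S) (m : ℕ) :
    (∀ i < m, (p : S) ^ s ∣ x.coeff i) ↔ ∀ n < m, (p : S) ^ (n + s) ∣ WittVector.ghostComponent n x := by
  refine ⟨fun h n hn => dvd_ghost hs x fun i hi => h i (lt_of_le_of_lt hi hn), fun h => ?_⟩
  intro i
  induction i using Nat.strong_induction_on with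
  | _ i ih =>
    intro hi
    have h1 := h i hi
    rw [ghost_eq, Finset.sum_range_succ, dvd_add_right, Nat.sub_self, pow_zero, pow_one] at h1
    · obtain ⟨c, hc⟩ := h1
      exact ⟨c, pow_cancel hS (k := i) (by rw [hc, pow_add, mul_assoc])⟩
    · exact Finset.dvd_sum fun j hj => dvd_term hs (Finset.mem_range.mp hj).le
        (ih j (Finset.mem_range.mp hj) ((Finset.mem_range.mp hj).trans hi))

include hS in
/-- ghost components `< m` vanish only if the components `< m` vanish. -/
theorem coeff_eq_zero_of_ghost (x : WittVector p S) (m : ℕ)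
    (h : ∀ n < m, WittVector.ghostComponent n x = 0) : ∀ i < m, x.coeff i = 0 := by
  intro i
  induction i using Nat.strong_induction_on with
  | _ i ih =>
    intro hi
    have h1 := h i hi
    rw [ghost_eq, Finset.sum_range_succ, Finset.sum_eq_zero, zero_add, Nat.sub_self, pow_zero, pow_one] at h1
    · exact pow_cancel hS (k := i) (by rw [h1, mul_zero])
    · intro j hj
      rw [ih j (Finset.mem_range.mp hj) ((Finset.mem_range.mp hj).trans hi),
        zero_pow (pow_pos (Fact.out : p.Prime).pos _).ne', mul_zero]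

include hS in
theorem eq_zero_of_ghost (x : WittVector p S) (h : ∀ n, WittVector.ghostComponent n x = 0) : x = 0 := by
  ext i
  rw [coeff_eq_zero_of_ghost hS x (i + 1) (fun n _ => h n) i (Nat.lt_succ_self i), WittVector.zero_coeff]

include hS in
/-- Dividing by `p^u` is unique on truncations and loses `u` in precision. -/
theorem dvd_coeff_of_pow_mul {u s : ℕ} (hs : 1 ≤ s) (m : ℕ) (x : WittVector p S)
    (h : ∀ i < m, (p : S) ^ (s + u) ∣ ((p : WittVector p S) ^ u * x).coeff i) :
    ∀ i < m, (p : S) ^ s ∣ x.coeff i := by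
  rw [dvd_coeff_iff hS hs]
  intro n hn
  have h1 := (dvd_coeff_iff hS (hs.trans (Nat.le_add_right s u)) _ m).mp h n hn
  rw [map_mul, map_pow, map_natCast, show n + (s + u) = u + (n + s) by omega, pow_add] at h1
  obtain ⟨c, hc⟩ := h1
  exact ⟨c, pow_cancel hS (k := u) (by rw [hc, mul_assoc])⟩

include hS in
/-- Dividing by `p^u` is unique on truncations. -/
theorem coeff_eq_zero_of_pow_mul {u : ℕ} (m : ℕ) (x : WittVector p S)
    (h : ∀ i < m, ((p : WittVector p S) ^ u * x).coeff i = 0) : ∀ i < m, x.coeff i = 0 := by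
  refine coeff_eq_zero_of_ghost hS x m fun n hn => pow_cancel hS (k := u) ?_
  rw [mul_zero, ← map_natCast (WittVector.ghostComponent (p := p) (R := S) n) p, ← map_pow, ← map_mul,
    ghost_eq]
  refine Finset.sum_eq_zero fun i hi => ?_
  rw [h i (lt_of_le_of_lt (Nat.lt_succ_iff.mp (Finset.mem_range.mp hi)) hn),
    zero_pow (pow_pos (Fact.out : p.Prime).pos _).ne', mul_zero]

/-- Every sequence `(p^(n+1) g_n)` is the ghost vector of a Witt vector. -/
theorem exists_ghost_eq (g : ℕ → S) :
    ∃ x : WittVector p S, ∀ n, WittVector.ghostComponent n x = (p : S) ^ (n + 1) * g n := by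
  let F : ∀ n : ℕ, (∀ i < n, S) → S := fun n z => g n - ∑ i : Fin n,
    (p : S) ^ (i.1 + p ^ (n - i.1) - (n + 1)) * z i.1 i.2 ^ p ^ (n - i.1)
  let z : ℕ → S := fun n => Nat.strongRec F n
  have hz : ∀ n, z n = F n fun i _ => z i := fun n => Nat.strongRec_eq ..
  refine ⟨WittVector.mk p fun n => (p : S) * z n, fun n => ?_⟩
  rw [ghost_eq, Finset.sum_range_succ, Nat.sub_self, pow_zero, pow_one]
  simp only [WittVector.coeff_mk]
  rw [← mul_assoc ((p : S) ^ n), ← pow_succ, hz n]
  have : ∑ i ∈ Finset.range n, (p : S) ^ i * ((p : S) * z i) ^ p ^ (n - i) =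
      (p : S) ^ (n + 1) * ∑ i : Fin n, (p : S) ^ (i.1 + p ^ (n - i.1) - (n + 1)) * z i.1 ^ p ^ (n - i.1) := by
    rw [Finset.mul_sum, Finset.sum_range]
    refine Finset.sum_congr rfl fun i _ => ?_
    have := succ_le_pow (p := p) (n - i.1)
    have hi := i.2
    rw [mul_pow, ← mul_assoc, ← mul_assoc, ← pow_add, ← pow_add]
    congr 2
    omega
  rw [this, ← mul_add, add_sub_cancel]

end Groth.Agent.CAlg76.Ghost
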