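import Mathlib
import Groth.Agent.DispLib.Summand
import Groth.Agent.DispLib.Complete

/-! Lifting finitely generated projective modules along surjective ring maps. -/

set_option autoImplicit false
universe u w

namespace Groth.Agent.CAlg76.LiftProj

variable {B C : Type u} [CommRing B] [CommRing C]

/-- A semilinear map out of a projective module with the expected kernel, realised by lifting an
idempotent matrix; the matrix need only be congruent to the given one modulo an ideal `K` for which
`C` is adically complete. -/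
theorem exists_lift (f : B →+* C) (hf : Function.Surjective f) (K : Ideal C) [IsAdicComplete K C]
    (hlift : ∀ (n : ℕ) (m : Matrix (Fin n) (Fin n) C), m * m = m →
      ∃ e : Matrix (Fin n) (Fin n) B, e * e = e ∧ ∀ i j, f (e i j) - m i j ∈ K)
    (Q : Type w) [AddCommGroup Q] [Module C Q] [Module.Finite C Q] [Module.Projective C Q] :
    ∃ (Q' : Type u) (_ : AddCommGroup Q') (_ : Module B Q'),
      Module.Finite B Q' ∧ Module.Projective B Q' ∧
        ∃ π : Q' →ₛₗ[f] Q, Function.Surjective π ∧
          LinearMap.ker π = RingHom.ker f • (⊤ : Submodule B Q') := by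
  classical
  obtain ⟨n, π₀, s, hs⟩ := DispLib.exists_retraction (A := C) (M := Q)
  have hs' : ∀ x, π₀ (s x) = x := LinearMap.congr_fun hs
  set m := LinearMap.toMatrix' (s.comp π₀) with hm
  have hmv : ∀ v, m.mulVec v = s (π₀ v) := fun v => by
    rw [hm, ← Matrix.toLin'_apply, Matrix.toLin'_toMatrix']; rfl
  have hmm : m * m = m := by
    rw [hm, ← LinearMap.toMatrix'_comp]
    congr 1
    refine LinearMap.ext fun v => ?_
    show s (π₀ (s (π₀ v))) = _
    rw [hs']
    rfl
  obtain ⟨e, hee, hem⟩ := hlift n m hmm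
  let Q' : Submodule B (Fin n → B) := LinearMap.range e.mulVecLin
  have hfix : ∀ q : Q', e.mulVec (q : Fin n → B) = q := by
    rintro ⟨_, v, rfl⟩
    simp [Matrix.mulVec_mulVec, hee]
  let pr : (Fin n → B) →ₗ[B] Q' := e.mulVecLin.rangeRestrict
  have hpr : pr.comp Q'.subtype = LinearMap.id := LinearMap.ext fun q => Subtype.ext (hfix q)
  let π : Q' →ₛₗ[f] Q :=
    { toFun := fun q => π₀ (fun i => f ((q : Fin n → B) i))
      map_add' := fun a b => by
        rw [← map_add π₀]; congr 1; ext i; simp
      map_smul' := fun c a => by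
        rw [← map_smul π₀]; congr 1; ext i; simp }
  have hdiff : ∀ v : Fin n → C, ∀ i, ((e.map f).mulVec v - m.mulVec v) i ∈ K := by
    intro v i
    rw [← Matrix.sub_mulVec]
    show ∑ j, (f (e i j) - m i j) * v j ∈ K
    exact K.sum_mem fun j _ => K.mul_mem_right _ (hem i j)
  have hmem : ∀ (w : Fin n → C), (∀ i, w i ∈ K) → π₀ w ∈ K • (⊤ : Submodule C Q) := by
    intro w hw
    rw [DispLib.pi_apply_eq_sum π₀]
    exact Submodule.sum_mem _ fun i _ => Submodule.smul_mem_smul (hw i) Submodule.mem_top
  refine ⟨Q', inferInstance, inferInstance, Module.Finite.of_surjective pr e.mulVecLin.surjective_rangeRestrict,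
    Module.Projective.of_split Q'.subtype pr hpr, π, ?_, ?_⟩
  · have htop : ∀ x, ∃ q, x - π q ∈ K • (⊤ : Submodule C Q) := by
      intro x
      choose v hv using fun i => hf (s x i)
      refine ⟨pr v, ?_⟩
      have h1 : π (pr v) = π₀ ((e.map f).mulVec (s x)) := by
        show π₀ _ = _
        congr 1
        ext i
        show f (e.mulVec v i) = _
        rw [RingHom.map_mulVec]
        simp [Function.comp_def, hv]
      have h2 : x = π₀ (m.mulVec (s x)) := by rw [hmv, hs', hs']
      nth_rw 1 [h2]
      rw [h1, ← map_sub]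
      refine hmem _ fun i => ?_
      rw [← neg_sub, Pi.neg_apply]
      exact neg_mem (hdiff _ i)
    let R : Submodule C Q := Submodule.span C (Set.range π)
    have hR : (⊤ : Submodule C Q) ≤ R := by
      refine Submodule.le_of_le_smul_of_le_jacobson_bot Module.Finite.fg_top
        (IsAdicComplete.le_jacobson_bot K) fun x _ => ?_
      obtain ⟨q, hq⟩ := htop x
      exact Submodule.mem_sup.mpr ⟨π q, Submodule.subset_span ⟨q, rfl⟩, x - π q, hq, add_sub_cancel _ _⟩
    intro x
    have hx := hR (Submodule.mem_top (x := x))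
    induction hx using Submodule.span_induction with
    | mem y hy => exact hy
    | zero => exact ⟨0, map_zero π⟩
    | add a b _ _ ha hb =>
      obtain ⟨qa, rfl⟩ := ha
      obtain ⟨qb, rfl⟩ := hb
      exact ⟨qa + qb, map_add π qa qb⟩
    | smul c a _ ha =>
      obtain ⟨qa, rfl⟩ := ha
      obtain ⟨b, rfl⟩ := hf c
      exact ⟨b • qa, map_smulₛₗ π b qa⟩
  · refine le_antisymm (fun q hq => ?_) (Submodule.smul_le.mpr fun a ha x _ => ?_)
    · set w : Fin n → C := fun i => f ((q : Fin n → B) i) with hw
      have h1 : (e.map f).mulVec w = w := by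
        ext i
        have := RingHom.map_mulVec f e (q : Fin n → B) i
        rw [hfix] at this
        exact this.symm
      have h2 : m.mulVec w = 0 := by rw [hmv, show π₀ w = 0 from hq, map_zero]
      have h3 : ∀ k, ∀ i, w i ∈ K ^ k := by
        intro k
        induction k with
        | zero => simp
        | succ k ih =>
          intro i
          have h4 : w = (e.map f - m).mulVec w := by rw [Matrix.sub_mulVec, h1, h2, sub_zero]
          rw [h4, pow_succ']
          show ∑ j, (f (e i j) - m i j) * w j ∈ K * K ^ k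
          exact Ideal.sum_mem _ fun j _ => Ideal.mul_mem_mul (hem i j) (ih j)
      have h5 : ∀ i, (q : Fin n → B) i ∈ RingHom.ker f := fun i => by
        refine IsHausdorff.haus (I := K) (M := C) inferInstance _ fun k => ?_
        rw [SModEq.sub_mem, sub_zero, smul_eq_mul, Ideal.mul_top]
        exact h3 k i
      rw [show q = pr (q : Fin n → B) from (LinearMap.congr_fun hpr q).symm, DispLib.pi_apply_eq_sum pr]
      exact Submodule.sum_mem _ fun i _ => Submodule.smul_mem_smul (h5 i) Submodule.mem_top
    · rw [LinearMap.mem_ker, map_smulₛₗ, RingHom.mem_ker.mp ha, zero_smul]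

/-- A surjection of a finite module onto a projective one is injective if its kernel is in `J • ⊤`,
`J` in the Jacobson radical. -/
theorem injective_of_ker_le {M : Type*} [AddCommGroup M] [Module B M] [Module.Finite B M]
    {N : Type*} [AddCommGroup N] [Module B N] [Module.Projective B N]
    (J : Ideal B) (hJ : J ≤ (⊥ : Ideal B).jacobson) (g : M →ₗ[B] N) (hg : Function.Surjective g)
    (hker : LinearMap.ker g ≤ J • (⊤ : Submodule B M)) : Function.Injective g := by
  obtain ⟨σ, hσ⟩ := Module.projective_lifting_property g LinearMap.id hg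
  have hσ' : ∀ x, g (σ x) = x := LinearMap.congr_fun hσ
  let r : M →ₗ[B] M := LinearMap.id - σ.comp g
  have hr : LinearMap.range r = LinearMap.ker g := by
    refine le_antisymm ?_ fun x hx => ⟨x, ?_⟩
    · rintro _ ⟨x, rfl⟩
      simp [r, hσ']
    · simp [r, LinearMap.mem_ker.mp hx]
  have hfg : (LinearMap.ker g).FG := hr ▸ (Module.Finite.range r).fg_top |> fun h => by
    rw [← hr]; exact Module.Finite.iff_fg.mp inferInstance
  rw [← LinearMap.ker_eq_bot]
  refine Submodule.eq_bot_of_le_smul_of_le_jacobson_bot J _ hfg (fun x hx => ?_) hJ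
  have : r x ∈ J • LinearMap.range r := by
    rw [← Submodule.map_top, ← Submodule.map_smul'']
    exact Submodule.mem_map_of_mem (hker hx)
  rw [hr] at this
  rwa [show r x = x by simp [r, LinearMap.mem_ker.mp hx]] at this

/-- Lifts along a map with kernel in the Jacobson radical are unique up to compatible isomorphism. -/
theorem exists_equiv (f : B →+* C) (hJ : RingHom.ker f ≤ (⊥ : Ideal B).jacobson)
    {Q : Type*} [AddCommGroup Q] [Module C Q]
    {P₁ : Type*} [AddCommGroup P₁] [Module B P₁] [Module.Finite B P₁] [Module.Projective B P₁]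
    {P₂ : Type*} [AddCommGroup P₂] [Module B P₂] [Module.Finite B P₂] [Module.Projective B P₂]
    (π₁ : P₁ →ₛₗ[f] Q) (π₂ : P₂ →ₛₗ[f] Q) (h₁ : Function.Surjective π₁)
    (k₁ : LinearMap.ker π₁ = RingHom.ker f • (⊤ : Submodule B P₁)) (h₂ : Function.Surjective π₂)
    (k₂ : LinearMap.ker π₂ = RingHom.ker f • (⊤ : Submodule B P₂)) :
    ∃ e : P₁ ≃ₗ[B] P₂, ∀ x, π₂ (e x) = π₁ x := by
  let : Module B Q := Module.compHom Q f
  let l₁ : P₁ →ₗ[B] Q := { toFun := π₁, map_add' := map_add π₁, map_smul' := fun b x => map_smulₛₗ π₁ b x }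
  let l₂ : P₂ →ₗ[B] Q := { toFun := π₂, map_add' := map_add π₂, map_smul' := fun b x => map_smulₛₗ π₂ b x }
  obtain ⟨h, hh⟩ := Module.projective_lifting_property l₂ l₁ h₂
  have hh' : ∀ x, π₂ (h x) = π₁ x := LinearMap.congr_fun hh
  have hsurj : Function.Surjective h := by
    rw [← LinearMap.range_eq_top, ← top_le_iff]
    refine Submodule.le_of_le_smul_of_le_jacobson_bot Module.Finite.fg_top hJ fun y _ => ?_
    obtain ⟨x, hx⟩ := h₁ (π₂ y)
    refine Submodule.mem_sup.mpr ⟨h x, ⟨x, rfl⟩, y - h x, ?_, add_sub_cancel _ _⟩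
    rw [← k₂, LinearMap.mem_ker, map_sub, hh', hx, sub_self]
  have hinj := injective_of_ker_le _ hJ h hsurj (fun x hx => by
    rw [← k₁, LinearMap.mem_ker, ← hh', LinearMap.mem_ker.mp hx, map_zero])
  exact ⟨LinearEquiv.ofBijective h ⟨hinj, hsurj⟩, hh'⟩

/-- idempotent matrices lift along complete ideals -/
theorem exists_idempotent_matrix (f : B →+* C) (hf : Function.Surjective f)
    [IsAdicComplete (RingHom.ker f) B] {n : ℕ} (m : Matrix (Fin n) (Fin n) C) (hm : m * m = m) :
    ∃ e : Matrix (Fin n) (Fin n) B, e * e = e ∧ e.map f = m := by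
  classical
  choose m' hm' using fun i j => hf (m i j)
  let g := Matrix.toLin' (Matrix.of m')
  have hg : ∀ x, g (g x) - g x ∈ RingHom.ker f • (⊤ : Submodule B (Fin n → B)) := by
    intro x
    have h0 : ∀ i, (g (g x) - g x) i ∈ RingHom.ker f := by
      intro i
      have hh : (Matrix.of m').map f = m := Matrix.ext hm'
      rw [RingHom.mem_ker, Pi.sub_apply, map_sub, Matrix.toLin'_apply, RingHom.map_mulVec, hh]
      have hcomp : f ∘ g x = m.mulVec (f ∘ x) := by
        ext j
        show f ((Matrix.of m').mulVec x j) = _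
        rw [RingHom.map_mulVec, hh]
      rw [show f (g x i) = (f ∘ g x) i from rfl, hcomp, Matrix.mulVec_mulVec, hm, sub_self]
    rw [← Finset.univ_sum_single (g (g x) - g x)]
    refine Submodule.sum_mem _ fun i _ => ?_
    rw [show Pi.single i ((g (g x) - g x) i) = ((g (g x) - g x) i) • (Pi.single i 1 : Fin n → B) by
      rw [← Pi.single_smul', smul_eq_mul, mul_one]]
    exact Submodule.smul_mem_smul (h0 i) Submodule.mem_top
  obtain ⟨e, he, heg⟩ := DispLib.exists_idempotent_lift (RingHom.ker f) g hg
  refine ⟨LinearMap.toMatrix' e, ?_, ?_⟩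
  · rw [← LinearMap.toMatrix'_comp]
    congr 1
    exact LinearMap.ext he
  · ext i j
    rw [Matrix.map_apply, LinearMap.toMatrix'_apply, ← hm' i j]
    have h1 : (e (Pi.single j (1 : B)) - g (Pi.single j (1 : B))) i ∈ RingHom.ker f := by
      have h2 := Submodule.smul_induction_on (p := fun v : Fin n → B => ∀ i, v i ∈ RingHom.ker f)
        (heg (Pi.single j (1 : B))) (fun a ha v _ i => Ideal.mul_mem_right _ _ ha)
        (fun a b ha hb i => add_mem (ha i) (hb i))
      exact h2 i
    rw [RingHom.mem_ker, Pi.sub_apply, map_sub, sub_eq_zero] at h1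
    rw [h1, Matrix.toLin'_apply]
    simp [Matrix.mulVec_single]

/-- idempotent matrices lift along nil ideals -/
theorem exists_idempotent_matrix_of_nil (f : B →+* C) (hf : Function.Surjective f)
    (hnil : ∀ x, f x = 0 → IsNilpotent x) {n : ℕ} (m : Matrix (Fin n) (Fin n) C) (hm : m * m = m) :
    ∃ e : Matrix (Fin n) (Fin n) B, e * e = e ∧ e.map f = m := by
  classical
  choose m' hm' using fun i j => hf (m i j)
  have hM : ∀ x : Matrix (Fin n) (Fin n) B, x ∈ RingHom.ker (f.mapMatrix (m := Fin n)) → IsNilpotent x :=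
    fun x hx => by
      let I : Ideal B := Ideal.span (Set.range fun ij : Fin n × Fin n => x ij.1 ij.2)
      have hI : I.FG := Submodule.fg_span (Set.finite_range _)
      have hxI : ∀ i j, x i j ∈ I := fun i j => Ideal.subset_span ⟨(i, j), rfl⟩
      obtain ⟨k, hk⟩ := hI.isNilpotent_iff_le_nilradical.mpr (Ideal.span_le.mpr (by
        rintro _ ⟨⟨i, j⟩, rfl⟩
        have hx0 : f.mapMatrix x = 0 := hx
        exact hnil _ (Matrix.ext_iff.mpr hx0 i j)))
      have hpow : ∀ (k : ℕ) (i j : Fin n), (x ^ k : Matrix (Fin n) (Fin n) B) i j ∈ I ^ k := by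
        intro k
        induction k with
        | zero => simp
        | succ k ih =>
          intro i j
          rw [pow_succ x, Matrix.mul_apply, pow_succ I]
          exact Ideal.sum_mem _ fun l _ => Ideal.mul_mem_mul (ih i l) (hxI l j)
      refine ⟨k, Matrix.ext fun i j => ?_⟩
      have := hpow k i j
      rw [hk] at this
      simpa using this
  obtain ⟨e, he, hfe⟩ := exists_isIdempotentElem_eq_of_ker_isNilpotent (f.mapMatrix (m := Fin n)) hM
    m ⟨Matrix.of m', Matrix.ext hm'⟩ hm
  exact ⟨e, he, hfe⟩

end Groth.Agent.CAlg76.LiftProj
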