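import Mathlib.Algebra.Category.ModuleCat.Monoidal.Basic
import Mathlib.Algebra.Category.ModuleCat.Limits
import Mathlib.RingTheory.Artinian.Module
import Mathlib.CategoryTheory.Functor.OfSequence
import Mathlib.CategoryTheory.Limits.ConcreteCategory.Basic
import Mathlib.LinearAlgebra.TensorProduct.RightExactness
import Mathlib.LinearAlgebra.TensorProduct.Pi

/-!
# Inverse sequences of Artinian modules

* `exists_compatible`: if the fibres of a map of inverse sequences over a compatible family are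
  non-empty and the source consists of Artinian modules, there is a compatible family in the fibres.
* `exists_limit_elem`: a compatible family gives an element of the limit in `ModuleCat`.
-/

set_option autoImplicit false

universe u v w

open CategoryTheory CategoryTheory.Limits TensorProduct Opposite

namespace Groth.Agent.CAlg76.LimFiber

variable {R : Type u} [CommRing R]

theorem exists_compatible {X : ℕ → Type v} [∀ n, AddCommGroup (X n)] [∀ n, Module R (X n)]
    [∀ n, IsArtinian R (X n)] {Z : ℕ → Type w} [∀ n, AddCommGroup (Z n)] [∀ n, Module R (Z n)]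
    (φ : ∀ n, X (n + 1) →ₗ[R] X n) (ψ : ∀ n, Z (n + 1) →ₗ[R] Z n) (g : ∀ n, X n →ₗ[R] Z n)
    (hc : ∀ n x, g n (φ n x) = ψ n (g (n + 1) x)) (z : ∀ n, Z n) (hz : ∀ n, ψ n (z (n + 1)) = z n)
    (hne : ∀ n, ∃ x, g n x = z n) :
    ∃ x : ∀ n, X n, (∀ n, φ n (x (n + 1)) = x n) ∧ ∀ n, g n (x n) = z n := by
  classical
  let C : ℕ → ∀ n, Set (X n) := fun k => Nat.rec (fun n => {x | g n x = z n}) (fun _ C n => φ n '' C (n + 1)) k
  let D : ℕ → ∀ n, Submodule R (X n) := fun k =>
    Nat.rec (fun n => LinearMap.ker (g n)) (fun _ D n => (D (n + 1)).map (φ n)) k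
  have hCne : ∀ k n, (C k n).Nonempty := by
    intro k
    induction k with
    | zero => exact hne
    | succ k ih => exact fun n => (ih (n + 1)).image _
  have hCdesc : ∀ k n, C (k + 1) n ⊆ C k n := by
    intro k
    induction k with
    | zero =>
      rintro n _ ⟨x, hx, rfl⟩
      show g n (φ n x) = z n
      rw [hc, hx, hz]
    | succ k ih => exact fun n => Set.image_mono (ih (n + 1))
  have hDdesc : ∀ k n, D (k + 1) n ≤ D k n := by
    intro k
    induction k with
    | zero =>
      rintro n _ ⟨x, hx, rfl⟩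
      show g n (φ n x) = 0
      rw [hc, show g (n + 1) x = 0 from hx, map_zero]
    | succ k ih => exact fun n => Submodule.map_mono (ih (n + 1))
  have hcoset : ∀ k n, ∀ c ∈ C k n, ∀ y, y ∈ C k n ↔ y - c ∈ D k n := by
    intro k
    induction k with
    | zero =>
      intro n c hc' y
      show g n y = z n ↔ g n (y - c) = 0
      rw [map_sub, show g n c = z n from hc', sub_eq_zero]
    | succ k ih =>
      rintro n _ ⟨c, hc', rfl⟩ y
      constructor
      · rintro ⟨x, hx, rfl⟩
        exact ⟨x - c, (ih _ c hc' x).mp hx, by rw [map_sub]⟩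
      · rintro ⟨d, hd, hd'⟩
        refine ⟨c + d, (ih _ c hc' _).mpr (by rw [add_sub_cancel_left]; exact hd), ?_⟩
        rw [map_add, hd', add_sub_cancel]
  have hanti : ∀ n, Antitone (fun k => C k n) := fun n => antitone_nat_of_succ_le (fun k => hCdesc k n)
  have hstab : ∀ n, ∃ K, ∀ k, K ≤ k → C k n = C K n := by
    intro n
    obtain ⟨K, hK⟩ := IsArtinian.monotone_stabilizes
      (⟨fun k => OrderDual.toDual (D k n), fun a b hab =>
        antitone_nat_of_succ_le (f := fun k => D k n) (fun k => hDdesc k n) hab⟩ : ℕ →o (Submodule R (X n))ᵒᵈ)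
    refine ⟨K, fun k hk => ?_⟩
    obtain ⟨c, hc'⟩ := hCne k n
    have hcK : c ∈ C K n := hanti n hk hc'
    have hD : D k n = D K n := (congrArg OrderDual.ofDual (hK k hk)).symm
    ext y
    rw [hcoset k n c hc' y, hcoset K n c hcK y, hD]
  choose K hK using hstab
  have hsurj : ∀ n, ∀ y ∈ C (K n) n, ∃ x ∈ C (K (n + 1)) (n + 1), φ n x = y := by
    intro n y hy
    rw [← hK n (max (K n) (K (n + 1)) + 1) (by omega)] at hy
    obtain ⟨x, hx', rfl⟩ := hy
    have hx : x ∈ C (max (K n) (K (n + 1))) (n + 1) := hx'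
    rw [hK (n + 1) (max (K n) (K (n + 1))) (le_max_right _ _)] at hx
    exact ⟨x, hx, rfl⟩
  choose next hnext hnext' using hsurj
  let w : ∀ n, {x // x ∈ C (K n) n} := fun n =>
    Nat.rec ⟨_, (hCne (K 0) 0).some_mem⟩ (fun m p => ⟨next m p.1 p.2, hnext m p.1 p.2⟩) n
  exact ⟨fun n => (w n).1, fun n => hnext' n _ (w n).2,
    fun n => hanti n (Nat.zero_le (K n)) (w n).2⟩

theorem exists_limit_elem (F : ℕᵒᵖ ⥤ ModuleCat.{u} R) (z : ∀ n, F.obj (op n))
    (hz : ∀ n, F.map (homOfLE (Nat.le_succ n)).op (z (n + 1)) = z n) :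
    ∃ x : (limit F : ModuleCat.{u} R), ∀ n, limit.π F (op n) x = z n := by
  let c : Cone F :=
    { pt := ModuleCat.of R R
      π := NatTrans.ofOpSequence (fun n => ModuleCat.ofHom (LinearMap.toSpanSingleton R _ (z n))) (fun n => by
        ext
        simpa using (hz n).symm) }
  refine ⟨limit.lift F c (1 : R), fun n => ?_⟩
  rw [← ConcreteCategory.comp_apply, limit.lift_π]
  simp [c]

theorem limit_elem_ext (F : ℕᵒᵖ ⥤ ModuleCat.{u} R) {x y : (limit F : ModuleCat.{u} R)}
    (h : ∀ n, limit.π F (op n) x = limit.π F (op n) y) : x = y :=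
  Concrete.limit_ext F x y (fun j => by simpa using h j.unop)

theorem limit_π_map (F : ℕᵒᵖ ⥤ ModuleCat.{u} R) (x : (limit F : ModuleCat.{u} R)) (n : ℕ) :
    F.map (homOfLE (Nat.le_succ n)).op (limit.π F (op (n + 1)) x) = limit.π F (op n) x := by
  rw [← ConcreteCategory.comp_apply, limit.w]

section Relations

variable {a b : ℕ} {N : Type u} [AddCommGroup N] [Module R N]
  (q : (Fin b → R) →ₗ[R] N) (r : (Fin a → R) →ₗ[R] (Fin b → R)) {P : Type u} [AddCommGroup P] [Module R P]

theorem surjective_sum_tmul (hq : Function.Surjective q) (t : P ⊗[R] N) :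
    ∃ v : Fin b → P, ∑ j, v j ⊗ₜ[R] q (Pi.single j 1) = t := by
  induction t with
  | zero => exact ⟨0, by simp⟩
  | tmul p y =>
    obtain ⟨c, rfl⟩ := hq y
    refine ⟨fun j => c j • p, ?_⟩
    conv_rhs => rw [pi_eq_sum_univ' c, map_sum, tmul_sum]
    exact Finset.sum_congr rfl fun j _ => by rw [map_smul, smul_tmul]
  | add x y hx hy =>
    obtain ⟨v, rfl⟩ := hx
    obtain ⟨w, rfl⟩ := hy
    exact ⟨v + w, by simp [add_tmul, Finset.sum_add_distrib]⟩

theorem exists_relation (hq : Function.Surjective q) (hex : Function.Exact r q) (v : Fin b → P)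
    (hv : ∑ j, v j ⊗ₜ[R] q (Pi.single j 1) = 0) :
    ∃ u : Fin a → P, ∀ j, ∑ i, r (Pi.single i 1) j • u i = v j := by
  classical
  have h0 : q.lTensor P (∑ j, v j ⊗ₜ[R] (Pi.single j 1 : Fin b → R)) = 0 := by
    simpa [map_sum] using hv
  obtain ⟨s, hs⟩ := (lTensor_exact P hex hq _).mp h0
  obtain ⟨u, rfl⟩ := surjective_sum_tmul (LinearMap.id : (Fin a → R) →ₗ[R] (Fin a → R)) Function.surjective_id s
  refine ⟨u, fun j => ?_⟩
  have h1 := congrArg (fun t => TensorProduct.piScalarRight R R P (Fin b) t j) hs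
  simpa [map_sum, Pi.single_apply, Finset.sum_apply] using h1

end Relations

end Groth.Agent.CAlg76.LimFiber
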