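import Mathlib.RingTheory.IntegralClosure.IsIntegralClosure.Basic
import Mathlib.RingTheory.KrullDimension.Polynomial
import Mathlib.RingTheory.KrullDimension.Field
import Mathlib.RingTheory.AlgebraicIndependent.Basic
import Groth.Agent.VarDim.Algebra

/-!
# Nagata's shifting trick, relative form

If `A` is integral over `F[z, b_1, …, b_m]` with `m ≥ dim A`, then `A` is integral over
`F[b_i + z ^ M^(i+1)]` for all large `M`. The exponents only depend on `M`, so the trick can be
applied to several algebras (e.g. the fibres of a family) at the same time.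
-/

set_option autoImplicit false

universe u v

open Polynomial

namespace Groth.Agent.CAlg76.NagataShift

theorem weight_inj {M : ℕ} : ∀ {m : ℕ} {v w : Fin m → ℕ}, (∀ i, v i < M) → (∀ i, w i < M) →
    ∑ i : Fin m, M ^ (i : ℕ) * v i = ∑ i : Fin m, M ^ (i : ℕ) * w i → v = w := by
  intro m
  induction m with
  | zero => intro v w _ _ _; exact funext fun i => i.elim0
  | succ m ih =>
    intro v w hv hw h
    have hstep : ∀ u : Fin (m + 1) → ℕ, ∑ i : Fin (m + 1), M ^ (i : ℕ) * u i =
        u 0 + M * ∑ i : Fin m, M ^ (i : ℕ) * u i.succ := by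
      intro u
      rw [Fin.sum_univ_succ, Finset.mul_sum]
      simp [pow_succ']
      refine Finset.sum_congr rfl fun i _ => by ring
    rw [hstep, hstep] at h
    have h0 : v 0 = w 0 := by
      have := congrArg (· % M) h
      simpa [Nat.mod_eq_of_lt (hv 0), Nat.mod_eq_of_lt (hw 0)] using this
    have hM : 0 < M := lt_of_le_of_lt (Nat.zero_le _) (hv 0)
    have h1 := ih (fun i => hv i.succ) (fun i => hw i.succ)
      (Nat.eq_of_mul_eq_mul_left hM (by omega))
    exact funext fun i => Fin.cases h0 (fun j => congrFun h1 j) i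

variable {F : Type u} [Field F] {A : Type v} [CommRing A] [Algebra F A]

/-- A polynomial relation between `z` and the `b i` makes `z` integral over the shifted family. -/
theorem isIntegral_shift [Nontrivial A] {m : ℕ} (z : A) (b : Fin m → A)
    (P : MvPolynomial (Fin (m + 1)) F) (hP : P ≠ 0)
    (hrel : MvPolynomial.aeval (Fin.cons z b) P = 0) (M : ℕ) (hM : P.totalDegree < M) :
    IsIntegral (Algebra.adjoin F (Set.range fun i => b i + z ^ M ^ ((i : ℕ) + 1))) z := by
  classical
  set S := Algebra.adjoin F (Set.range fun i => b i + z ^ M ^ ((i : ℕ) + 1)) with hS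
  let e : Fin m → ℕ := fun i => M ^ ((i : ℕ) + 1)
  have hMpos : 0 < M := lt_of_le_of_lt (Nat.zero_le _) hM
  let f : Fin m → S := fun i => ⟨b i + z ^ e i, Algebra.subset_adjoin ⟨i, rfl⟩⟩
  let g : (Fin (m + 1) →₀ ℕ) → S[X] := fun v =>
    X ^ v 0 * ∏ i : Fin m, (X ^ e i - C (f i)) ^ v i.succ
  let sign : (Fin (m + 1) →₀ ℕ) → F := fun v => ∏ i : Fin m, (-1 : F) ^ v i.succ
  let D : (Fin (m + 1) →₀ ℕ) → ℕ := fun v => v 0 + ∑ i : Fin m, v i.succ * e i
  let α : (Fin (m + 1) →₀ ℕ) → F := fun v => MvPolynomial.coeff v P * sign v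
  have he : ∀ i, e i ≠ 0 := fun i => (pow_pos hMpos _).ne'
  have hgm : ∀ v, (g v).Monic := fun v =>
    (monic_X_pow _).mul (monic_prod_of_monic _ _ (fun i _ => (monic_X_pow_sub_C _ (he i)).pow _))
  have hgd : ∀ v, (g v).natDegree = D v := by
    intro v
    simp only [g, D]
    rw [(monic_X_pow _).natDegree_mul (monic_prod_of_monic _ _ (fun i _ => (monic_X_pow_sub_C _ (he i)).pow _)),
      natDegree_X_pow, natDegree_prod_of_monic _ _ (fun i _ => (monic_X_pow_sub_C _ (he i)).pow _)]
    congr 1
    refine Finset.sum_congr rfl fun i _ => ?_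
    rw [(monic_X_pow_sub_C _ (he i)).natDegree_pow, natDegree_X_pow_sub_C]
  let Q : S[X] := ∑ v ∈ P.support, α v • g v
  have hQ : aeval z Q = 0 := by
    rw [← hrel, MvPolynomial.aeval_def (Fin.cons z b), MvPolynomial.eval₂_eq', map_sum]
    refine Finset.sum_congr rfl fun v _ => ?_
    have hgz : aeval z (g v) = algebraMap F A (sign v) * (z ^ v 0 * ∏ i : Fin m, b i ^ v i.succ) := by
      simp only [g, sign, map_mul, map_pow, map_prod, map_sub, aeval_X, aeval_C, map_neg, map_one]
      rw [mul_left_comm, ← Finset.prod_mul_distrib]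
      congr 1
      refine Finset.prod_congr rfl fun i _ => ?_
      rw [← mul_pow]
      congr 1
      show z ^ e i - (b i + z ^ e i) = -1 * b i
      ring
    rw [AlgHom.map_smul_of_tower, hgz, Fin.prod_univ_succ, Fin.cons_zero, Algebra.smul_def, ← mul_assoc,
      ← map_mul]
    simp only [Fin.cons_succ]
    congr 1
    congr 1
    show MvPolynomial.coeff v P * sign v * sign v = MvPolynomial.coeff v P
    rw [mul_assoc]
    simp [sign, ← Finset.prod_mul_distrib, ← mul_pow]
  have hDinj : ∀ v ∈ P.support, ∀ w ∈ P.support, D v = D w → v = w := by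
    intro v hv w hw h
    have hlt : ∀ u ∈ P.support, ∀ i, u i < M := fun u hu i =>
      lt_of_le_of_lt ((MvPolynomial.monomial_le_degreeOf i hu).trans (MvPolynomial.degreeOf_le_totalDegree P i)) hM
    have hD : ∀ u : Fin (m + 1) →₀ ℕ, D u = ∑ i : Fin (m + 1), M ^ (i : ℕ) * u i := by
      intro u
      simp [D, e, Fin.sum_univ_succ, mul_comm]
    rw [hD, hD] at h
    exact Finsupp.ext (congrFun (weight_inj (hlt v hv) (hlt w hw) h))
  obtain ⟨v, hv, hmax⟩ := Finset.exists_max_image P.support D (MvPolynomial.support_nonempty.mpr hP)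
  have hα : α v ≠ 0 := mul_ne_zero (MvPolynomial.mem_support_iff.mp hv)
    (Finset.prod_ne_zero_iff.mpr fun i _ => pow_ne_zero _ (by norm_num))
  have hcoeff : Q.coeff (D v) = algebraMap F S (α v) := by
    simp only [Q, finset_sum_coeff, coeff_smul]
    rw [Finset.sum_eq_single v]
    · rw [← hgd v, (hgm v).coeff_natDegree, Algebra.smul_def, mul_one]
    · intro w hw hwv
      have : (g w).natDegree < D v := by
        rw [hgd]
        exact lt_of_le_of_ne (hmax w hw) (fun h => hwv (hDinj w hw v hv h))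
      rw [coeff_eq_zero_of_natDegree_lt this, smul_zero]
    · exact fun h => absurd hv h
  have hdeg : Q.natDegree ≤ D v := natDegree_sum_le_of_forall_le _ _ fun w hw =>
    (natDegree_smul_le _ _).trans ((hgd w).le.trans (hmax w hw))
  refine ⟨(α v)⁻¹ • Q, monic_of_natDegree_le_of_coeff_eq_one (D v) ((natDegree_smul_le _ _).trans hdeg) ?_, ?_⟩
  · rw [coeff_smul, hcoeff, Algebra.smul_def, ← map_mul, inv_mul_cancel₀ hα, map_one]
  · show aeval z ((α v)⁻¹ • Q) = 0
    rw [AlgHom.map_smul_of_tower, hQ, smul_zero]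

/-- An integral extension of `F[a_1, …, a_n]` with `dim A < n` satisfies a relation. -/
theorem exists_relation {d n : ℕ} (hdim : ringKrullDim A ≤ d) (hdn : d < n) (a : Fin n → A)
    (hint : Algebra.IsIntegral (Algebra.adjoin F (Set.range a)) A) :
    ∃ P : MvPolynomial (Fin n) F, P ≠ 0 ∧ MvPolynomial.aeval a P = 0 := by
  by_contra hne
  push_neg at hne
  have hai : AlgebraicIndependent F a := by
    rw [algebraicIndependent_iff]
    intro P hP
    by_contra h
    exact hne P h hP
  have h1 := VarDim.ringKrullDim_eq_of_isIntegral (R := Algebra.adjoin F (Set.range a)) (S := A)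
  rw [← ringKrullDim_eq_of_ringEquiv hai.aevalEquiv.toRingEquiv, MvPolynomial.ringKrullDim_of_isNoetherianRing,
    ringKrullDim_eq_zero_of_field, zero_add] at h1
  rw [h1] at hdim
  have : n ≤ d := by simpa using hdim
  omega

/-- Nagata's trick: for all large `M`, the shifted family still has `A` integral over it. -/
theorem exists_bound [Nontrivial A] {d m : ℕ} (hdim : ringKrullDim A ≤ d) (hdm : d ≤ m) (z : A) (b : Fin m → A)
    (hint : Algebra.IsIntegral (Algebra.adjoin F (Set.range (Fin.cons z b))) A) :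
    ∃ B : ℕ, ∀ M, B < M →
      Algebra.IsIntegral (Algebra.adjoin F (Set.range fun i => b i + z ^ M ^ ((i : ℕ) + 1))) A := by
  obtain ⟨P, hP, hrel⟩ := exists_relation hdim (Nat.lt_succ_of_le hdm) (Fin.cons z b) hint
  refine ⟨P.totalDegree, fun M hM => ?_⟩
  set S := Algebra.adjoin F (Set.range fun i => b i + z ^ M ^ ((i : ℕ) + 1))
  have hz : IsIntegral S z := isIntegral_shift z b P hP hrel M hM
  let T : Subalgebra S A := integralClosure S A
  have hle : ∀ x ∈ Algebra.adjoin F (Set.range (Fin.cons z b)), x ∈ T := by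
    intro x hx
    refine (Algebra.adjoin_le (S := T.restrictScalars F) ?_) hx
    rintro _ ⟨i, rfl⟩
    refine Fin.cases ?_ (fun j => ?_) i
    · simp only [Fin.cons_zero, SetLike.mem_coe, Subalgebra.mem_restrictScalars]
      exact hz
    · simp only [Fin.cons_succ, SetLike.mem_coe, Subalgebra.mem_restrictScalars]
      have h1 : b j + z ^ M ^ ((j : ℕ) + 1) ∈ T :=
        (isIntegral_algebraMap (x := (⟨_, Algebra.subset_adjoin ⟨j, rfl⟩⟩ : S)))
      simpa using T.sub_mem h1 (T.pow_mem hz (M ^ ((j : ℕ) + 1)))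
  refine ⟨fun x => ?_⟩
  let ι : Algebra.adjoin F (Set.range (Fin.cons z b)) →+* T :=
    { toFun := fun y => ⟨(y : A), hle _ y.2⟩
      map_one' := rfl
      map_mul' := fun _ _ => rfl
      map_zero' := rfl
      map_add' := fun _ _ => rfl }
  obtain ⟨p, hp, hpx⟩ := hint.isIntegral x
  have hx : IsIntegral T x := ⟨p.map ι, hp.map ι, by rw [eval₂_map]; exact hpx⟩
  exact isIntegral_trans x hx

end Groth.Agent.CAlg76.NagataShift
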