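import Mathlib
import Groth.Agent.RegLoc.MCM
import Groth.Agent.Depth.CM

/-!
# Matrix presentations of torsion-free modules over planar curve singularities
-/

set_option autoImplicit false

universe u

namespace Groth.Agent.CAlg76.Planar

open IsLocalRing

variable {S : Type u} [CommRing S] [IsRegularLocalRing S]

/-- A finite module over a two-dimensional regular local ring with a regular element in the maximal
ideal has free first syzygy. -/
theorem free_ker (hS : ringKrullDim S = 2) (D : Type u) [AddCommGroup D] [Module S D] (x : S)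
    (hx : x ∈ maximalIdeal S) (hx0 : x ≠ 0) (hxD : IsSMulRegular D x) {n : ℕ}
    (g : (Fin n → S) →ₗ[S] D) : Module.Free S (LinearMap.ker g) := by
  haveI := RegLoc.isDomain S
  haveI : IsNoetherianRing S := inferInstance
  rcases subsingleton_or_nontrivial (LinearMap.ker g) with h | h
  · exact Module.Free.of_subsingleton S _
  have hxS : IsSMulRegular S x := fun a b hab ↦ mul_left_cancel₀ hx0 hab
  have hdS : LocCoh.idealDepth (maximalIdeal S) S = 2 := by
    haveI := Depth.isCohenMacaulayLocalRing_of_isRegularLocalRing (R := S)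
    have h := LocCoh.IsCohenMacaulayLocalRing.supportDim_eq_depth (R := S)
    rw [Module.supportDim_self_eq_ringKrullDim, hS] at h
    rw [← Depth.depth_eq_idealDepth]
    exact WithBot.coe_injective (h.symm.trans rfl)
  have h1 : 1 ≤ LocCoh.idealDepth (maximalIdeal S) (QuotSMulTop x S) := by
    have h := Depth.idealDepth_quotSMulTop_add_one (I := maximalIdeal S) hx hxS
    rw [hdS] at h
    rw [← ENat.add_le_add_iff_right ENat.one_ne_top, h]
    norm_num
  obtain ⟨z, hz, hzreg⟩ := Depth.exists_isSMulRegular_of_one_le_idealDepth h1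
  have hseq : RingTheory.Sequence.IsWeaklyRegular (LinearMap.ker g) [x, z] := by
    rw [RingTheory.Sequence.isWeaklyRegular_cons_iff, RingTheory.Sequence.isWeaklyRegular_singleton_iff]
    have hK : ∀ (s : S) (v : LinearMap.ker g) (i : Fin n), ((s • v : LinearMap.ker g) : Fin n → S) i = s * v.1 i :=
      fun _ _ _ ↦ rfl
    refine ⟨fun a b hab ↦ Subtype.ext (funext fun i ↦ hxS ?_), ?_⟩
    · show x * a.1 i = x * b.1 i
      rw [← hK, ← hK]; exact congrArg (fun v : LinearMap.ker g ↦ v.1 i) hab
    · refine IsSMulRegular.of_right_eq_zero_of_smul fun v hv ↦ ?_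
      obtain ⟨v, rfl⟩ := Submodule.Quotient.mk_surjective _ v
      rw [← Submodule.Quotient.mk_smul, Submodule.Quotient.mk_eq_zero,
        Submodule.mem_smul_pointwise_iff_exists] at hv
      obtain ⟨w, -, hw⟩ := hv
      have hi : ∀ i, ∃ y : S, x * y = v.1 i := by
        intro i
        have h2 : x * w.1 i = z * v.1 i := by
          rw [← hK, ← hK]; exact congrArg (fun v : LinearMap.ker g ↦ v.1 i) hw
        have h3 : (Submodule.Quotient.mk (v.1 i) : QuotSMulTop x S) = 0 := by
          refine hzreg.right_eq_zero_of_smul ?_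
          rw [← Submodule.Quotient.mk_smul, Submodule.Quotient.mk_eq_zero,
            Submodule.mem_smul_pointwise_iff_exists]
          exact ⟨w.1 i, trivial, h2⟩
        rw [Submodule.Quotient.mk_eq_zero, Submodule.mem_smul_pointwise_iff_exists] at h3
        obtain ⟨y, -, hy⟩ := h3
        exact ⟨y, hy⟩
      choose y hy using hi
      have hy' : x • y = v.1 := funext hy
      have hgy : g y = 0 := hxD.right_eq_zero_of_smul (by rw [← map_smul, hy']; exact v.2)
      rw [Submodule.Quotient.mk_eq_zero, Submodule.mem_smul_pointwise_iff_exists]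
      exact ⟨⟨y, hgy⟩, trivial, Subtype.ext hy'⟩
  have hd : LocCoh.idealDepth (maximalIdeal S) (LinearMap.ker g) = 2 := by
    have hmem : ∀ r ∈ [x, z], r ∈ maximalIdeal S := by
      intro r hr
      rcases List.mem_cons.1 hr with rfl | hr
      · exact hx
      · rw [List.mem_singleton] at hr; exact hr ▸ hz
    refine le_antisymm ?_ (by simpa using Depth.le_idealDepth_of_isWeaklyRegular hseq hmem)
    rw [← Depth.depth_eq_idealDepth]
    have h2 := Depth.depth_le_supportDim (R := S) (M := LinearMap.ker g)
    have h3 := Module.supportDim_le_ringKrullDim S (LinearMap.ker g)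
    have h4 := h2.trans h3
    rw [hS] at h4
    exact WithBot.coe_le_coe.1 (h4.trans_eq rfl)
  refine RegLoc.MCM.free_of_depth_eq_dim _ ?_
  rw [Depth.depth_eq_idealDepth, hd, hS]; rfl

variable {R : Type u} [CommRing R] [IsLocalRing R]

/-- A module with positive depth over `R = S/(f)` has a presentation `R^m → R^n → D` on which every
element of the annihilator of `D` is divisible from the left by the presentation matrix. -/
theorem exists_presentation (hS : ringKrullDim S = 2) (π : S →+* R) (hπ : Function.Surjective π)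
    (D : Type u) [AddCommGroup D] [Module R D] [Module.Finite R D] (x : R)
    (hx : x ∈ maximalIdeal R) (hxD : IsSMulRegular D x) :
    ∃ (n m : ℕ) (g : (Fin n → R) →ₗ[R] D) (φ : (Fin m → R) →ₗ[R] (Fin n → R)),
      Function.Surjective g ∧ Function.Exact φ g ∧
      ∀ j ∈ Module.annihilator R D, ∃ ψ : (Fin n → R) →ₗ[R] (Fin m → R), ψ ∘ₗ φ = j • LinearMap.id := by
  classical
  rcases subsingleton_or_nontrivial D with hD | hD
  · refine ⟨0, 0, 0, 0, fun d ↦ ⟨0, Subsingleton.elim _ _⟩, fun v ↦ ⟨fun _ ↦ ⟨v, Subsingleton.elim _ _⟩, fun _ ↦ Subsingleton.elim _ _⟩, ?_⟩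
    exact fun j _ ↦ ⟨0, LinearMap.ext fun v ↦ Subsingleton.elim _ _⟩
  letI : Algebra S R := π.toAlgebra
  letI : Module S D := Module.compHom D π
  haveI : IsScalarTower S R D := IsScalarTower.of_algebraMap_smul fun _ _ ↦ rfl
  obtain ⟨n, v, hv⟩ := Module.Finite.exists_fin (R := R) (M := D)
  let gS : (Fin n → S) →ₗ[S] D := Fintype.linearCombination S v
  obtain ⟨x', rfl⟩ := hπ x
  have hx'0 : x' ≠ 0 := by
    rintro rfl
    rw [map_zero] at hxD
    obtain ⟨d, hd⟩ := exists_ne (0 : D)
    exact hd (hxD.right_eq_zero_of_smul (zero_smul R d))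
  have hx'm : x' ∈ maximalIdeal S := by
    rw [mem_maximalIdeal] at hx ⊢
    exact fun h ↦ hx (h.map π)
  haveI : Module.Free S (LinearMap.ker gS) := free_ker hS D x' hx'm hx'0 hxD gS
  let b := Module.Free.chooseBasis S (LinearMap.ker gS)
  let m := Fintype.card (Module.Free.ChooseBasisIndex S (LinearMap.ker gS))
  let e : (Fin m → S) ≃ₗ[S] LinearMap.ker gS :=
    ((b.reindex (Fintype.equivFin _)).equivFun).symm
  let A : Matrix (Fin n) (Fin m) S := LinearMap.toMatrix' ((LinearMap.ker gS).subtype ∘ₗ e.toLinearMap)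
  have hA : ∀ w, A.mulVec w = (e w).1 := fun w ↦ by
    simp [A, ← Matrix.toLin'_apply]
  have hmap : ∀ w : Fin m → S, (A.map π).mulVec (fun i ↦ π (w i)) = fun i ↦ π (A.mulVec w i) := fun w ↦
    funext fun i ↦ (RingHom.map_mulVec π A w i).symm
  have hg : ∀ w : Fin n → S, Fintype.linearCombination R v (fun i ↦ π (w i)) = gS w := fun w ↦ by
    simp only [gS, Fintype.linearCombination_apply]; rfl
  refine ⟨n, m, Fintype.linearCombination R v, (A.map π).mulVecLin, ?_, ?_, ?_⟩
  · rw [← LinearMap.range_eq_top, Fintype.range_linearCombination, hv]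
  · intro w
    choose w' hw' using fun i ↦ hπ (w i)
    obtain rfl : (fun i ↦ π (w' i)) = w := funext hw'
    constructor
    · intro h
      rw [hg] at h
      refine ⟨fun i ↦ π (e.symm ⟨w', h⟩ i), ?_⟩
      rw [Matrix.mulVecLin_apply, hmap, hA, e.apply_symm_apply]
    · rintro ⟨u, hu⟩
      choose u' hu' using fun i ↦ hπ (u i)
      obtain rfl : (fun i ↦ π (u' i)) = u := funext hu'
      rw [← hu, Matrix.mulVecLin_apply, hmap, hg, hA]
      exact (e u').2
  · intro j hj
    obtain ⟨j', rfl⟩ := hπ j
    have hmem : ∀ w : Fin n → S, j' • w ∈ LinearMap.ker gS := fun w ↦ by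
      rw [LinearMap.mem_ker, map_smul]
      exact (Module.mem_annihilator.1 hj) _
    let sS : (Fin n → S) →ₗ[S] (Fin m → S) :=
      e.symm.toLinearMap ∘ₗ (j' • LinearMap.id).codRestrict (LinearMap.ker gS) hmem
    let B : Matrix (Fin m) (Fin n) S := LinearMap.toMatrix' sS
    have hBA : B * A = j' • (1 : Matrix (Fin m) (Fin m) S) := by
      rw [← LinearMap.toMatrix'_comp, ← LinearMap.toMatrix'_id, ← map_smul]
      congr 1
      refine LinearMap.ext fun w ↦ ?_
      show e.symm _ = j' • w
      rw [LinearEquiv.symm_apply_eq, map_smul]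
      exact Subtype.ext rfl
    refine ⟨(B.map π).mulVecLin, ?_⟩
    rw [← Matrix.mulVecLin_mul, ← Matrix.map_mul, hBA]
    refine LinearMap.ext fun w ↦ ?_
    rw [Matrix.mulVecLin_apply, Matrix.map_smul' π j' _ (map_mul π), Matrix.map_one π (map_zero π) (map_one π)]
    simp [Matrix.smul_mulVec]

end Groth.Agent.CAlg76.Planar
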