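import Mathlib.RingTheory.Valuation.ValuationSubring
import Mathlib.RingTheory.AlgebraicIndependent.Basic
import Mathlib.RingTheory.KrullDimension.Basic
import Mathlib.RingTheory.Spectrum.Prime.Defs
import Mathlib.Algebra.CharP.Basic
import Mathlib.Algebra.BigOperators.Fin

/-!
# The height of a valuation ring is bounded by one plus the transcendence degree over the prime field

`ringKrullDim_le_trdeg_succ`: if `trdeg (⊥ : Subfield K) K ≤ d` then `ringKrullDim A ≤ d + 1` for
every valuation subring `A` of `K`.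
-/

set_option autoImplicit false

universe u

namespace Groth.Agent.CAlg76.ValHeight

variable {K : Type u} [Field K] (A : ValuationSubring K)

/-- Monomials in elements separated by primes are pairwise non-associated. -/
theorem eq_of_associated {R : Type*} [CommRing R] [IsDomain R] : ∀ (n : ℕ) (x : Fin n → R)
    (Q : Fin n → Ideal R) (_ : ∀ i, (Q i).IsPrime) (_ : ∀ i, x i ∈ Q i)
    (_ : ∀ i l, i < l → x l ∉ Q i) (_ : ∀ i, x i ≠ 0) (a b : Fin n → ℕ),
    Associated (∏ i, x i ^ a i) (∏ i, x i ^ b i) → a = b := by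
  intro n
  induction n with
  | zero => intro _ _ _ _ _ _ a b _; exact funext fun i => i.elim0
  | succ n ih =>
    intro x Q hQ hx hlt h0 a b h
    rw [Fin.prod_univ_succ, Fin.prod_univ_succ] at h
    have key : ∀ (a b : Fin (n + 1) → ℕ), b 0 < a 0 →
        ¬ Associated (x 0 ^ a 0 * ∏ i : Fin n, x i.succ ^ a i.succ)
          (x 0 ^ b 0 * ∏ i : Fin n, x i.succ ^ b i.succ) := by
      intro a b hab h
      obtain ⟨k, hk⟩ := Nat.exists_eq_add_of_lt hab
      rw [hk, add_assoc, pow_add, mul_assoc] at h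
      obtain ⟨u, hu⟩ := h.symm
      rw [mul_assoc] at hu
      have hu' := mul_left_cancel₀ (pow_ne_zero _ (h0 0)) hu
      have hmem : x 0 ^ (k + 1) * ∏ i : Fin n, x i.succ ^ a i.succ ∈ Q 0 :=
        (Q 0).mul_mem_right _ ((Q 0).pow_mem_of_mem (hx 0) _ (Nat.succ_pos k))
      rw [← hu'] at hmem
      rcases (hQ 0).mem_or_mem hmem with h1 | h1
      · rw [(hQ 0).prod_mem_iff] at h1
        obtain ⟨i, -, hi⟩ := h1
        exact hlt 0 i.succ (Fin.succ_pos i) ((hQ 0).mem_of_pow_mem _ hi)
      · exact (hQ 0).ne_top ((Q 0).eq_top_of_isUnit_mem h1 u.isUnit)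
    rcases lt_trichotomy (a 0) (b 0) with hab | hab | hab
    · exact absurd h.symm (key b a hab)
    · rw [hab] at h
      have h' := Associated.of_mul_left h (Associated.refl _) (pow_ne_zero _ (h0 0))
      have := ih (x ∘ Fin.succ) (Q ∘ Fin.succ) (fun i => hQ _) (fun i => hx _)
        (fun i l hil => hlt _ _ (Fin.succ_lt_succ_iff.mpr hil)) (fun i => h0 _)
        (a ∘ Fin.succ) (b ∘ Fin.succ) h'
      exact funext fun i => Fin.cases hab (fun j => congrFun this j) i
    · exact absurd h (key a b hab)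

/-- Elements of the prime field are ratios of integers. -/
theorem exists_int_ratio {c : K} (hc : c ∈ (⊥ : Subfield K)) :
    ∃ m l : ℤ, (l : K) ≠ 0 ∧ c * l = m := by
  rw [← Subfield.closure_empty] at hc
  induction hc using Subfield.closure_induction with
  | mem x hx => exact absurd hx (Set.notMem_empty x)
  | one => exact ⟨1, 1, by simp, by simp⟩
  | add x y _ _ hx hy =>
    obtain ⟨m, l, hl, h⟩ := hx
    obtain ⟨m', l', hl', h'⟩ := hy
    refine ⟨m * l' + m' * l, l * l', by push_cast; exact mul_ne_zero hl hl', ?_⟩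
    push_cast
    rw [← h, ← h']; ring
  | neg x _ hx =>
    obtain ⟨m, l, hl, h⟩ := hx
    exact ⟨-m, l, hl, by push_cast; rw [← h]; ring⟩
  | inv x _ hx =>
    obtain ⟨m, l, hl, h⟩ := hx
    by_cases hx0 : x = 0
    · exact ⟨0, 1, by simp, by simp [hx0]⟩
    · refine ⟨l, m, by rw [← h]; exact mul_ne_zero hx0 hl, ?_⟩
      rw [← h, ← mul_assoc, inv_mul_cancel₀ hx0, one_mul]
  | mul x y _ _ hx hy =>
    obtain ⟨m, l, hl, h⟩ := hx
    obtain ⟨m', l', hl', h'⟩ := hy
    refine ⟨m * m', l * l', by push_cast; exact mul_ne_zero hl hl', ?_⟩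
    push_cast
    rw [← h, ← h']; ring

theorem valuation_coe_prod {ι : Type*} (s : Finset ι) (x : ι → A) (a : ι → ℕ) :
    A.valuation ((∏ i ∈ s, x i ^ a i : A) : K) = ∏ i ∈ s, A.valuation (x i : K) ^ a i := by
  rw [show ((∏ i ∈ s, x i ^ a i : A) : K) = ∏ i ∈ s, (x i : K) ^ a i from by push_cast; rfl,
    map_prod]
  simp only [map_pow]

/-- The elements `x i`, `i ∈ S`, are algebraically independent over the prime field as soon as the
values of non-zero integers are monomials in the remaining ones. -/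
theorem algebraicIndependent_of_separated {n : ℕ} (x : Fin n → A) (Q : Fin n → Ideal A)
    (hQ : ∀ i, (Q i).IsPrime) (hx : ∀ i, x i ∈ Q i) (hlt : ∀ i l, i < l → x l ∉ Q i)
    (h0 : ∀ i, x i ≠ 0) (S : Finset (Fin n))
    (hint : ∀ m : ℤ, (m : K) ≠ 0 → ∃ e : Fin n → ℕ, (∀ i ∈ S, e i = 0) ∧
      A.valuation (m : K) = ∏ i, A.valuation (x i : K) ^ e i) :
    AlgebraicIndependent (⊥ : Subfield K) (fun i : S => ((x i : A) : K)) := by
  classical
  have hinj : ∀ a b : Fin n → ℕ,
      ∏ i, A.valuation (x i : K) ^ a i = ∏ i, A.valuation (x i : K) ^ b i → a = b := by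
    intro a b hab
    rw [← valuation_coe_prod, ← valuation_coe_prod, ValuationSubring.valuation_eq_iff] at hab
    obtain ⟨u, hu⟩ := hab
    refine eq_of_associated n x Q hQ hx hlt h0 a b (Associated.symm ⟨u, ?_⟩)
    apply Subtype.ext
    rw [mul_comm]
    exact hu
  rw [algebraicIndependent_iff]
  intro p hp
  by_contra hne
  let ext : (↥S →₀ ℕ) → Fin n → ℕ := fun a i => if h : i ∈ S then a ⟨i, h⟩ else 0
  let f : (↥S →₀ ℕ) → K := fun a =>
    ((MvPolynomial.coeff a p : (⊥ : Subfield K)) : K) * ∏ i : S, ((x i : A) : K) ^ a i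
  have hsum : ∑ a ∈ p.support, f a = 0 := by
    rw [← hp, MvPolynomial.aeval_def, MvPolynomial.eval₂_eq']
    rfl
  have hmono : ∀ a : ↥S →₀ ℕ,
      A.valuation (∏ i : S, ((x i : A) : K) ^ a i) = ∏ i, A.valuation (x i : K) ^ ext a i := by
    intro a
    rw [map_prod, ← Finset.prod_subset (Finset.subset_univ S) (fun i _ hi => by simp [ext, hi]),
      ← Finset.prod_coe_sort S (fun i => A.valuation (x i : K) ^ ext a i)]
    exact Finset.prod_congr rfl (fun i _ => by simp [ext, map_pow])
  have hval : ∀ a ∈ p.support, ∃ e e' : Fin n → ℕ, (∀ i ∈ S, e i = 0) ∧ (∀ i ∈ S, e' i = 0) ∧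
      A.valuation (f a) * ∏ i, A.valuation (x i : K) ^ e' i =
        ∏ i, A.valuation (x i : K) ^ (e i + ext a i) := by
    intro a ha
    obtain ⟨m, l, hl, hml⟩ := exists_int_ratio (MvPolynomial.coeff a p : (⊥ : Subfield K)).2
    have hc : ((MvPolynomial.coeff a p : (⊥ : Subfield K)) : K) ≠ 0 :=
      fun h => MvPolynomial.mem_support_iff.mp ha (Subtype.ext h)
    obtain ⟨e, he, hev⟩ := hint m (by rw [← hml]; exact mul_ne_zero hc hl)
    obtain ⟨e', he', hev'⟩ := hint l hl
    refine ⟨e, e', he, he', ?_⟩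
    rw [← hev', map_mul, hmono, mul_right_comm, ← map_mul, hml, hev, ← Finset.prod_mul_distrib]
    simp only [pow_add]
  have hf0 : ∀ a ∈ p.support, A.valuation (f a) ≠ 0 := by
    intro a ha
    rw [map_ne_zero]
    refine mul_ne_zero (fun h => MvPolynomial.mem_support_iff.mp ha (Subtype.ext h)) ?_
    exact Finset.prod_ne_zero_iff.mpr (fun i _ => pow_ne_zero _ (fun h => h0 i (Subtype.ext h)))
  have hinj' : ∀ a ∈ p.support, ∀ b ∈ p.support, A.valuation (f a) = A.valuation (f b) → a = b := by
    intro a ha b hb hab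
    obtain ⟨e, e', he, he', hea⟩ := hval a ha
    obtain ⟨g, g', hg, hg', heb⟩ := hval b hb
    have h1 : ∏ i, A.valuation (x i : K) ^ (e i + ext a i + g' i) =
        ∏ i, A.valuation (x i : K) ^ (g i + ext b i + e' i) := by
      simp only [pow_add, Finset.prod_mul_distrib] at hea heb ⊢
      rw [← hea, ← heb, hab]
      exact mul_right_comm _ _ _
    ext i
    have := congrFun (hinj _ _ h1) i
    simpa [he i i.2, he' i i.2, hg i i.2, hg' i i.2, ext] using this
  obtain ⟨a, ha, hmax⟩ := Finset.exists_max_image p.support (fun a => A.valuation (f a))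
    (by rwa [Finset.nonempty_iff_ne_empty, Ne, MvPolynomial.support_eq_empty])
  refine hf0 a ha ?_
  rw [← Valuation.map_sum_eq_of_lt A.valuation ha ?_, hsum, map_zero]
  intro i hi
  rw [Finset.mem_sdiff, Finset.mem_singleton] at hi
  exact lt_of_le_of_ne (hmax i hi.1) fun h => hi.2 (hinj' i hi.1 a ha h)

theorem valuation_intCast_eq_one (m : ℤ) (h : (m : A) ∉ IsLocalRing.maximalIdeal A) :
    A.valuation (m : K) = 1 := by
  rw [← map_intCast A.subtype m]
  exact (A.valuation_eq_one_iff (m : A)).mp (IsLocalRing.notMem_maximalIdeal.mp h)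

/-- Either every non-zero integer is a unit of `A`, or some prime `q` carries all their values. -/
theorem int_values : (∀ m : ℤ, (m : K) ≠ 0 → A.valuation (m : K) = 1) ∨
    ∃ q : ℕ, (q : K) ≠ 0 ∧ (q : A) ∈ IsLocalRing.maximalIdeal A ∧
      ∀ m : ℤ, (m : K) ≠ 0 → ∃ k : ℕ, A.valuation (m : K) = A.valuation (q : K) ^ k := by
  by_cases hall : ∀ m : ℤ, (m : K) ≠ 0 → (m : A) ∉ IsLocalRing.maximalIdeal A
  · exact Or.inl fun m hm => valuation_intCast_eq_one A m (hall m hm)
  push_neg at hall
  obtain ⟨m₀, hm₀, hm₀'⟩ := hall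
  refine Or.inr ?_
  obtain ⟨q, hchar⟩ := CharP.exists (IsLocalRing.ResidueField A)
  have hmem : ∀ m : ℤ, (m : A) ∈ IsLocalRing.maximalIdeal A ↔ (q : ℤ) ∣ m := fun m => by
    rw [← IsLocalRing.residue_eq_zero_iff, map_intCast, CharP.intCast_eq_zero_iff _ q]
  have hqdvd : (q : ℤ) ∣ m₀ := (hmem _).mp hm₀'
  have hqK : (q : K) ≠ 0 := by
    obtain ⟨c, hc⟩ := hqdvd
    intro h
    apply hm₀
    rw [hc]; push_cast; rw [h, zero_mul]
  have hqm : (q : A) ∈ IsLocalRing.maximalIdeal A := by
    rw [← Int.cast_natCast, hmem]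
  refine ⟨q, hqK, hqm, fun m hm => ?_⟩
  have hq0 : q ≠ 0 := fun h => hqK (by simp [h])
  have hm0 : m ≠ 0 := fun h => hm (by simp [h])
  have hfin : FiniteMultiplicity (q : ℤ) m := by
    rw [Int.finiteMultiplicity_iff]
    refine ⟨?_, hm0⟩
    simpa using CharP.char_ne_one (IsLocalRing.ResidueField A) q
  obtain ⟨c, hc, hndvd⟩ := hfin.exists_eq_pow_mul_and_not_dvd
  refine ⟨multiplicity (q : ℤ) m, ?_⟩
  conv_lhs => rw [hc]
  rw [Int.cast_mul, Int.cast_pow, Int.cast_natCast, map_mul, map_pow,
    valuation_intCast_eq_one A c (fun h => hndvd ((hmem c).mp h)), mul_one]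

theorem card_le_of_separated {d : ℕ} (hd : Algebra.trdeg (⊥ : Subfield K) K ≤ d)
    {n : ℕ} (x : Fin n → A) (Q : Fin n → Ideal A)
    (hQ : ∀ i, (Q i).IsPrime) (hx : ∀ i, x i ∈ Q i) (hlt : ∀ i l, i < l → x l ∉ Q i)
    (h0 : ∀ i, x i ≠ 0) (S : Finset (Fin n))
    (hint : ∀ m : ℤ, (m : K) ≠ 0 → ∃ e : Fin n → ℕ, (∀ i ∈ S, e i = 0) ∧
      A.valuation (m : K) = ∏ i, A.valuation (x i : K) ^ e i) :
    S.card ≤ d := by
  have h := (algebraicIndependent_of_separated A x Q hQ hx hlt h0 S hint).lift_cardinalMk_le_trdeg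
  rw [Cardinal.mk_coe_finset, Cardinal.lift_natCast] at h
  have h2 := h.trans (Cardinal.lift_le.mpr hd)
  rw [Cardinal.lift_natCast] at h2
  exact_mod_cast h2

/-- A chain of primes starting at `⊥` and ending at the maximal ideal has length at most `d + 1`. -/
theorem length_le {d : ℕ} (hd : Algebra.trdeg (⊥ : Subfield K) K ≤ d)
    (l : LTSeries (PrimeSpectrum A)) (hhead : l.head.asIdeal = ⊥)
    (hlast : l.last.asIdeal = IsLocalRing.maximalIdeal A) : l.length ≤ d + 1 := by
  classical
  have hmono : ∀ i j, i ≤ j → (l i).asIdeal ≤ (l j).asIdeal := fun i j h => l.monotone h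
  have hex : ∀ i : Fin l.length, ∃ y : A, y ∈ (l i.succ).asIdeal ∧ y ∉ (l i.castSucc).asIdeal := by
    intro i
    have := l.step i
    exact SetLike.exists_of_lt (show (l i.castSucc).asIdeal < (l i.succ).asIdeal from this)
  rcases int_values A with hint | ⟨q, hqK, hqm, hint⟩
  · choose x hx hx' using hex
    have := card_le_of_separated A hd x (fun i => (l i.succ).asIdeal) (fun i => (l i.succ).isPrime)
      hx (fun i j hij h => hx' j (hmono i.succ j.castSucc hij h))
      (fun i h => hx' i (h ▸ Submodule.zero_mem _)) Finset.univ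
      (fun m hm => ⟨fun _ => 0, fun _ _ => rfl, by simp [hint m hm]⟩)
    simp at this
    omega
  · have hqlast : (q : A) ∈ (l (Fin.last l.length)).asIdeal := hlast ▸ hqm
    obtain ⟨j, hj, hj'⟩ : ∃ j : Fin l.length, (q : A) ∈ (l j.succ).asIdeal ∧ (q : A) ∉ (l j.castSucc).asIdeal := by
      by_contra hne
      push_neg at hne
      have hall : ∀ i : Fin (l.length + 1), (q : A) ∈ (l i).asIdeal := fun i => by
        induction i using Fin.reverseInduction with
        | last => exact hqlast
        | cast i ih => exact hne i ih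
      have := hall 0
      have hh : (l 0).asIdeal = ⊥ := hhead
      rw [hh, Ideal.mem_bot] at this
      apply hqK
      rw [← SubringClass.coe_natCast A.toSubring]
      exact congrArg Subtype.val this
    have hex' : ∀ i : Fin l.length, ∃ y : A, y ∈ (l i.succ).asIdeal ∧ y ∉ (l i.castSucc).asIdeal ∧
        (i = j → y = (q : A)) := fun i => by
      by_cases h : i = j
      · subst h; exact ⟨q, hj, hj', fun _ => rfl⟩
      · obtain ⟨y, hy, hy'⟩ := hex i
        exact ⟨y, hy, hy', fun h' => absurd h' h⟩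
    choose x hx hx' hxj using hex'
    have := card_le_of_separated A hd x (fun i => (l i.succ).asIdeal) (fun i => (l i.succ).isPrime)
      hx (fun i j hij h => hx' j (hmono i.succ j.castSucc hij h))
      (fun i h => hx' i (h ▸ Submodule.zero_mem _)) (Finset.univ.erase j)
      (fun m hm => by
        obtain ⟨k, hk⟩ := hint m hm
        refine ⟨fun i => if i = j then k else 0, fun i hi => by simp [(Finset.mem_erase.mp hi).1], ?_⟩
        rw [Finset.prod_eq_single j (fun i _ hi => by simp [hi]) (by simp), hxj j rfl, hk]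
        simp)
    simp at this
    omega

/-- The height of a valuation subring is at most one plus the transcendence degree of the field
over its prime subfield. -/
theorem ringKrullDim_le_trdeg_succ {d : ℕ} (hd : Algebra.trdeg (⊥ : Subfield K) K ≤ d) :
    ringKrullDim A ≤ ((d + 1 : ℕ) : WithBot ℕ∞) := by
  refine iSup_le fun l => ?_
  have key : ∀ l : LTSeries (PrimeSpectrum A), l.head.asIdeal = ⊥ → l.length ≤ d + 1 := by
    intro l hh
    let top : PrimeSpectrum A := ⟨IsLocalRing.maximalIdeal A, inferInstance⟩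
    by_cases hl : l.last = top
    · exact length_le A hd l hh (congrArg PrimeSpectrum.asIdeal hl)
    · have hlt : l.last < top :=
        lt_of_le_of_ne (IsLocalRing.le_maximalIdeal l.last.isPrime.ne_top) hl
      have := length_le A hd (l.snoc top hlt) (by rw [RelSeries.head_snoc]; exact hh)
        (by rw [RelSeries.last_snoc])
      simp only [RelSeries.snoc_length] at this
      omega
  have : l.length ≤ d + 1 := by
    let bot : PrimeSpectrum A := ⟨⊥, Ideal.isPrime_bot⟩
    by_cases hl : l.head = bot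
    · exact key l (congrArg PrimeSpectrum.asIdeal hl)
    · have hlt : bot < l.head := lt_of_le_of_ne bot_le (Ne.symm hl)
      have := key (l.cons bot hlt) (by rw [RelSeries.head_cons])
      simp only [RelSeries.cons_length] at this
      omega
  exact_mod_cast this

end Groth.Agent.CAlg76.ValHeight
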